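import Groth.Agent.CurveVA.Separation
import Groth.Agent.H23.PnChart
import Groth.Agent.CurveCohLib.RegularCurve

/-! Very ample modules separate points and tangent vectors. -/

noncomputable section

set_option linter.style.haveILetI false
set_option linter.unusedSectionVars false
set_option backward.isDefEq.respectTransparency false
set_option backward.isDefEq.respectTransparency.types false

universe u

open CategoryTheory CategoryTheory.Limits AlgebraicGeometry TopologicalSpace Opposite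
open HomogeneousLocalization (Away)

namespace Groth.Agent.CurveVA

open Groth.Agent Groth.Agent.InvX Groth.Agent.H23

variable (n : ℕ) (k : Type u) [Field k]

local notation "𝒜" => CohB1.polyGrading n k
local notation "T" => (MvPolynomial.X : Fin (n + 1) → MvPolynomial (Fin (n + 1)) k)

theorem toSpec_appLE_chart (j : Fin (n + 1)) (c : k) :
    (CohB1.ProjSpace.toSpec n k).appLE ⊤ (Proj.basicOpen 𝒜 (T j)) le_top
        ((Scheme.ΓSpecIso (CommRingCat.of k)).inv c) =
      (Proj.awayToSection 𝒜 (T j)).hom (ZetaLib.base n k j c) := by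
  let D : (Proj 𝒜).Opens := Proj.basicOpen 𝒜 (T j)
  have h : D.ι ≫ CohB1.ProjSpace.toSpec n k =
      Proj.basicOpenToSpec 𝒜 (T j) ≫ Spec.map (CommRingCat.ofHom (ZetaLib.base n k j)) := by
    rw [← ZetaLib.chart_toSpec, ← Proj.basicOpenIsoSpec_hom 𝒜 (T j) (ZetaLib.X_mem_one n k j) Nat.one_pos]
    simp [ZetaLib.chart, Proj.awayι]
    rfl
  apply (ConcreteCategory.bijective_of_isIso D.topIso.inv).1
  have h2 := ConcreteCategory.congr_hom (congrArg Scheme.Hom.appTop h) ((Scheme.ΓSpecIso (CommRingCat.of k)).inv c)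
  have e1 : Scheme.Hom.appTop (D.ι ≫ CohB1.ProjSpace.toSpec n k) =
      (CohB1.ProjSpace.toSpec n k).appLE ⊤ D le_top ≫ D.topIso.inv := by
    simp [Scheme.Hom.appLE, Scheme.Hom.comp_app, Scheme.Opens.topIso, D, ← Functor.map_comp]
    rfl
  have e2 : Scheme.Hom.appTop (Proj.basicOpenToSpec 𝒜 (T j) ≫ Spec.map (CommRingCat.ofHom (ZetaLib.base n k j))) =
      (Scheme.ΓSpecIso (CommRingCat.of k)).hom ≫ CommRingCat.ofHom (ZetaLib.base n k j) ≫
        Proj.awayToSection 𝒜 (T j) ≫ D.topIso.inv := by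
    rw [Scheme.Hom.comp_appTop, show (Proj.basicOpenToSpec 𝒜 (T j)).appTop = _ from Proj.basicOpenToSpec_app_top 𝒜 (T j)]
    simp [D]
  rw [e1, e2] at h2
  simp at h2 ⊢
  exact h2

/-- The functions on a chart are generated by constants and ratios of coordinates. -/
theorem subring_chart_eq_top (j : Fin (n + 1)) (S : Subring Γ(CohB1.ProjSpace n k, Proj.basicOpen 𝒜 (T j)))
    (hc : ∀ c : k, (CohB1.ProjSpace.toSpec n k).appLE ⊤ (Proj.basicOpen 𝒜 (T j)) le_top
        ((Scheme.ΓSpecIso (CommRingCat.of k)).inv c) ∈ S)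
    (hl : ∀ l, (Proj.awayToSection 𝒜 (T j)).hom (ZetaLib.coord n k j l) ∈ S) : S = ⊤ := by
  haveI : IsIso (Proj.awayToSection 𝒜 (T j)) :=
    inferInstanceAs (IsIso (Proj.basicOpenIsoAway 𝒜 (T j) (ZetaLib.X_mem_one n k j) Nat.one_pos).hom)
  refine top_le_iff.1 fun x hx => ?_
  clear hx
  obtain ⟨y, rfl⟩ := (ConcreteCategory.bijective_of_isIso (Proj.awayToSection 𝒜 (T j))).2 x
  obtain ⟨p, rfl⟩ := PnChart.fromChart_surjective.{u, u} n k j y
  show p ∈ S.comap ((Proj.awayToSection 𝒜 (T j)).hom.comp (PnChart.fromChart n k j))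
  induction p using MvPolynomial.induction_on with
  | C c =>
    show (Proj.awayToSection 𝒜 (T j)).hom (PnChart.fromChart n k j (MvPolynomial.C c)) ∈ S
    rw [PnChart.fromChart, MvPolynomial.eval₂Hom_C, ← toSpec_appLE_chart]
    exact hc c
  | add p q hp hq => exact add_mem hp hq
  | mul_X p l hp =>
    refine mul_mem hp ?_
    show (Proj.awayToSection 𝒜 (T j)).hom (PnChart.fromChart n k j (MvPolynomial.X l)) ∈ S
    rw [PnChart.fromChart, MvPolynomial.eval₂Hom_X']
    exact hl _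

variable {n} {X : Scheme.{u}} {L : X.Modules} [X.Over (Spec (CommRingCat.of k))]

/-- A constant as a global function. -/
def sc (c : k) : Γ(X, ⊤) := Coh.resTop X (op ⊤) (Coh.toGlobal (X ↘ Spec (CommRingCat.of k)) c)

theorem germ_sc {x : X} (c : k) : X.presheaf.germ ⊤ x trivial (sc k c) = Curv2.stalkMap k X x c := by
  show X.presheaf.germ ⊤ x trivial (X.presheaf.map (𝟙 (op ⊤)) _) = _
  rw [CategoryTheory.Functor.map_id]
  rfl

/-- Sections whose ratios generate the functions on affine loci covering the scheme. -/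
structure Gen {ι : Type*} (L : X.Modules) (s : ι → Γ(L, ⊤)) (U : ι → X.Opens)
    (b : ∀ j, ι → Γ(X, U j)) : Prop where
  cover : ∀ x, ∃ j, x ∈ U j
  affine : ∀ j, IsAffineOpen (U j)
  locus_eq : ∀ j, U j = TrivBasic.locus (s j)
  res_eq : ∀ j l, AModX.res L (le_top : U j ≤ ⊤) (s l) = b j l • AModX.res L (le_top : U j ≤ ⊤) (s j)
  gen : ∀ j (S : Subring Γ(X, U j)), (∀ c, AModX.resR (le_top : U j ≤ ⊤) (sc k c) ∈ S) →
    (∀ l, b j l ∈ S) → S = ⊤

section Morphism

variable (r : X ⟶ CohB1.ProjSpace n k) [IsClosedImmersion r]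
  (hr : r ≫ CohB1.ProjSpace.toSpec n k = X ↘ Spec (CommRingCat.of k))
  (τ : (Scheme.Modules.pullback r).obj (Twist.twistProjSpace n k 1) ≅ L)

/-- The section of `L` given by a coordinate. -/
def σ (i : Fin (n + 1)) : Γ(L, ⊤) :=
  τ.hom.app ⊤ (ProjUP.pullSec r (Twist.twistProjSpace n k 1) (ProjUP.coord n k i))

/-- The preimage of a chart. -/
def Uc (i : Fin (n + 1)) : X.Opens := r ⁻¹ᵁ Proj.basicOpen 𝒜 (T i)

theorem isFrame_σ (j : Fin (n + 1)) : IsFrame (AModX.res L (le_top : Uc k r j ≤ ⊤) (σ k r τ j)) :=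
  TrivBasic.isFrame_res_of_le_locus (AmpleEmbed.preimage_chart r τ j rfl).le

theorem exists_mem_Uc (x : X) : ∃ j, x ∈ Uc k r j :=
  (Opens.mem_iSup.1 (show r x ∈ ⨆ i, Proj.basicOpen 𝒜 (T i) from
    (AmpleEmbed.iSup_basicOpen_X n k).ge trivial)).imp fun _ h => h

/-- The function `σ l / σ j`. -/
def β (j l : Fin (n + 1)) : Γ(X, Uc k r j) :=
  ProjUPX.ratioOf r (ProjPt.X_mem l) (ProjPt.X_mem j) (le_refl (Uc k r j))

theorem res_σ (j l : Fin (n + 1)) : AModX.res L (le_top : Uc k r j ≤ ⊤) (σ k r τ l) =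
    β k r j l • AModX.res L (le_top : Uc k r j ≤ ⊤) (σ k r τ j) := by
  obtain ⟨b, hb⟩ := (isFrame_σ k r τ j).exists_coord le_rfl (AModX.res L le_top (σ k r τ l))
  rw [AModX.res_self] at hb
  refine hb.trans (congrArg (· • _) ?_)
  exact (AmpleEmbed.ratioOf_eq r τ j l rfl rfl le_rfl b hb).symm

include hr in
theorem subring_eq_top (j : Fin (n + 1)) (S : Subring Γ(X, Uc k r j))
    (hc : ∀ c, AModX.resR (le_top : Uc k r j ≤ ⊤) (sc k c) ∈ S) (hl : ∀ l, β k r j l ∈ S) : S = ⊤ := by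
  refine top_le_iff.1 fun x hx => ?_
  clear hx
  obtain ⟨y, rfl⟩ := r.app_surjective _
    (Proj.isAffineOpen_basicOpen 𝒜 (T j) (ProjPt.X_mem j) one_pos) x
  suffices h : S.comap (r.app (Proj.basicOpen 𝒜 (T j))).hom = ⊤ by
    exact (h ▸ Subring.mem_top y : y ∈ S.comap (r.app (Proj.basicOpen 𝒜 (T j))).hom)
  refine subring_chart_eq_top n k j _ (fun c => ?_) fun l => ?_
  · show r.app _ _ ∈ S
    refine Set.mem_of_eq_of_mem ?_ (hc c)
    rw [← Scheme.Hom.appLE_eq_app, ← CommRingCat.comp_apply, Scheme.Hom.appLE_comp_appLE]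
    simp only [hr]
    show (X ↘ Spec (CommRingCat.of k)).appLE ⊤ _ _ ((Scheme.ΓSpecIso (CommRingCat.of k)).inv c) =
      X.presheaf.map _ (X.presheaf.map (𝟙 (op ⊤)) ((X ↘ Spec (CommRingCat.of k)).appTop _))
    rw [CategoryTheory.Functor.map_id]
    rfl
  · show r.app _ _ ∈ S
    refine Set.mem_of_eq_of_mem ?_ (hl l)
    rw [← Scheme.Hom.appLE_eq_app]
    rfl

include hr in
/-- A closed immersion into projective space gives generating sections. -/
theorem gen_of_isClosedImmersion : Gen k L (σ k r τ) (Uc k r) (β k r) where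
  cover := exists_mem_Uc k r
  affine j := (Proj.isAffineOpen_basicOpen 𝒜 (T j) (ProjPt.X_mem j) one_pos).preimage r
  locus_eq j := AmpleEmbed.preimage_chart r τ j rfl
  res_eq := res_σ k r τ
  gen := subring_eq_top k r hr

end Morphism

variable [IsAlgClosed k] [IsProper (X ↘ Spec (CommRingCat.of k))] [IsIntegral X]

theorem mem_locus_of_coord {U : X.Opens} {e : Γ(L, U)} (he : IsFrame e) {x : X} (hx : x ∈ U) {z : Γ(L, ⊤)}
    (h : coord he hx (L.presheaf.germ ⊤ x trivial z) ∉ IsLocalRing.maximalIdeal (X.presheaf.stalk x)) :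
    x ∈ TrivBasic.locus z := by
  obtain ⟨γ, hγ⟩ := he.exists_coord le_rfl (AModX.res L (le_top : U ≤ ⊤) z)
  rw [AModX.res_self] at hγ
  have h2 : x ∈ TrivBasic.locus z ⊓ U := by
    rw [TrivBasic.locus_eq_basicOpen he hγ, X.mem_basicOpen _ x hx]
    rw [← InvX.germ_res' (le_top : U ≤ ⊤) hx z, hγ, QCoh.germ_smul', coord_smul_germ,
      IsLocalRing.mem_maximalIdeal] at h
    exact not_not.1 h
  exact h2.1

/-- The value of a function at a closed point. -/
def val {U : X.Opens} {x : X} (hx : x ∈ U) (hc : IsClosed ({x} : Set X)) : Γ(X, U) →+* k :=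
  ((resInv k hc).comp (X.residue x).hom).comp (X.presheaf.germ U x hx).hom

theorem val_sc {U : X.Opens} {x : X} (hx : x ∈ U) (hc : IsClosed ({x} : Set X)) (c : k) :
    val k hx hc (AModX.resR (le_top : U ≤ ⊤) (sc k c)) = c := by
  show resInv k hc (X.residue x (X.presheaf.germ U x hx _)) = c
  rw [InvX.germ_resR' (le_top : U ≤ ⊤) hx, germ_sc]
  exact resInv_resMap k hc c

theorem sub_val_mem {U : X.Opens} {x : X} (hx : x ∈ U) (hc : IsClosed ({x} : Set X)) (f : Γ(X, U)) (c : k) :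
    X.presheaf.germ U x hx f - Curv2.stalkMap k X x c ∈ IsLocalRing.maximalIdeal (X.presheaf.stalk x) ↔
      val k hx hc f = c := by
  rw [← resInv_eq_zero k hc, map_sub, map_sub, sub_eq_zero,
    show X.residue x (Curv2.stalkMap k X x c) = Curv2.resMap k X x c from rfl, resInv_resMap]
  rfl

section GenSections

variable {k}

variable {ι : Type*} {s : ι → Γ(L, ⊤)} {U : ι → X.Opens} {γ : ∀ j, ι → Γ(X, U j)}

namespace Gen

variable (G : Gen k L s U γ)
include G

theorem isFrame (j : ι) : IsFrame (AModX.res L (le_top : U j ≤ ⊤) (s j)) :=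
  TrivBasic.isFrame_res_of_le_locus (G.locus_eq j).le

/-- The coordinate of a combination of two of the sections. -/
theorem coord_comb {j l : ι} {x : X} (hx : x ∈ U j) (c : k) :
    coord (G.isFrame j) hx (L.presheaf.germ ⊤ x trivial (s l - sc (X := X) k c • s j)) =
      X.presheaf.germ _ x hx (γ j l) - Curv2.stalkMap k X x c := by
  rw [map_sub, map_sub]
  congr 1
  · rw [← InvX.germ_res' (le_top : U j ≤ ⊤) hx (s l), congrArg (L.presheaf.germ _ x hx) (G.res_eq j l),
      QCoh.germ_smul']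
    exact coord_smul_germ _ hx _
  · rw [QCoh.germ_smul' L (U := ⊤) (hx := (trivial : x ∈ (⊤ : X.Opens))), germ_sc,
      ← InvX.germ_res' (le_top : U j ≤ ⊤) hx (s j)]
    exact coord_smul_germ _ hx _

/-- Very ample modules are generated. -/
theorem exists_not_mem {V : X.Opens} {e : Γ(L, V)} (he : IsFrame e) {a : X} (ha : a ∈ V) :
    ∃ z : Γ(L, ⊤), coord he ha (L.presheaf.germ ⊤ a trivial z) ∉ IsLocalRing.maximalIdeal (X.presheaf.stalk a) := by
  obtain ⟨j, hj⟩ := G.cover a
  refine ⟨s j, fun h => ?_⟩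
  have h1 := coord_mem_of_frame he (G.isFrame j) ha hj h
  rw [← InvX.germ_res' (le_top : U j ≤ ⊤) hj (s j),
    ← one_smul (X.presheaf.stalk a) (L.presheaf.germ _ a hj _), coord_smul_germ] at h1
  exact IsLocalRing.maximalIdeal.isMaximal _ |>.ne_top ((Ideal.eq_top_iff_one _).2 h1)

/-- Very ample modules separate points. -/
theorem exists_sep {V : X.Opens} {e : Γ(L, V)} (he : IsFrame e) {V' : X.Opens} {e' : Γ(L, V')}
    (he' : IsFrame e') {a b : X} (ha : a ∈ V) (hb : b ∈ V') (hac : IsClosed ({a} : Set X))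
    (hbc : IsClosed ({b} : Set X)) (hne : b ≠ a) :
    ∃ z : Γ(L, ⊤), coord he ha (L.presheaf.germ ⊤ a trivial z) ∈ IsLocalRing.maximalIdeal (X.presheaf.stalk a) ∧
      coord he' hb (L.presheaf.germ ⊤ b trivial z) ∉ IsLocalRing.maximalIdeal (X.presheaf.stalk b) := by
  obtain ⟨j, hjb⟩ := G.cover b
  by_cases hja : a ∈ U j
  · suffices h : ∃ l, val k hja hac (γ j l) ≠ val k hjb hbc (γ j l) by
      obtain ⟨l, hl⟩ := h
      refine ⟨s l - sc (X := X) k (val k hja hac (γ j l)) • s j,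
        coord_mem_of_frame (G.isFrame j) he hja ha ?_, fun h => hl ?_⟩
      · rw [G.coord_comb]
        exact (sub_val_mem k hja hac _ _).2 rfl
      · have h1 := coord_mem_of_frame he' (G.isFrame j) hb hjb h
        rw [G.coord_comb] at h1
        exact ((sub_val_mem k hjb hbc _ _).1 h1).symm
    by_contra! hall
    have htop := G.gen j (RingHom.eqLocus (val k hja hac) (val k hjb hbc))
      (fun c => (val_sc k hja hac c).trans (val_sc k hjb hbc c).symm) hall
    obtain ⟨f, hf, hbf⟩ := (G.affine j).exists_basicOpen_le (V := ⟨({a} : Set X)ᶜ, hac.isOpen_compl⟩) ⟨b, hne⟩ hjb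
    have haf : a ∉ X.basicOpen f := fun h => hf h rfl
    have h0 : val k hja hac f = 0 := by
      rw [X.mem_basicOpen _ a hja] at haf
      exact (resInv_eq_zero k hac _).2 ((IsLocalRing.mem_maximalIdeal _).2 haf)
    have h0' : val k hjb hbc f ≠ 0 := fun h => by
      rw [X.mem_basicOpen _ b hjb] at hbf
      exact (IsLocalRing.mem_maximalIdeal _).1 ((resInv_eq_zero k hbc _).1 h) hbf
    exact h0' ((show f ∈ RingHom.eqLocus (val k hja hac) (val k hjb hbc) from htop ▸ Subring.mem_top f).symm.trans h0)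
  · refine ⟨s j, ?_, fun h => ?_⟩
    · by_contra h
      exact hja ((G.locus_eq j).ge (mem_locus_of_coord he ha h))
    · have h1 := coord_mem_of_frame he' (G.isFrame j) hb hjb h
      rw [← InvX.germ_res' (le_top : U j ≤ ⊤) hjb (s j),
        ← one_smul (X.presheaf.stalk b) (L.presheaf.germ _ b hjb _), coord_smul_germ] at h1
      exact IsLocalRing.maximalIdeal.isMaximal _ |>.ne_top ((Ideal.eq_top_iff_one _).2 h1)

/-- Very ample modules separate tangent vectors. -/
theorem exists_tan {V : X.Opens} {e : Γ(L, V)} (he : IsFrame e) {a : X} (ha : a ∈ V) (hac : IsClosed ({a} : Set X))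
    (N : Ideal (X.presheaf.stalk a)) (hlt : ¬ IsLocalRing.maximalIdeal (X.presheaf.stalk a) ≤ N) :
    ∃ z : Γ(L, ⊤), coord he ha (L.presheaf.germ ⊤ a trivial z) ∈ IsLocalRing.maximalIdeal (X.presheaf.stalk a) ∧
      coord he ha (L.presheaf.germ ⊤ a trivial z) ∉ N := by
  obtain ⟨j, hja⟩ := G.cover a
  suffices h : ∃ l, X.presheaf.germ _ a hja (γ j l) - Curv2.stalkMap k X a (val k hja hac (γ j l)) ∉ N by
    obtain ⟨l, hl⟩ := h
    refine ⟨s l - sc (X := X) k (val k hja hac (γ j l)) • s j,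
      coord_mem_of_frame (G.isFrame j) he hja ha ?_, fun h => hl ?_⟩
    · rw [G.coord_comb]
      exact (sub_val_mem k hja hac _ _).2 rfl
    · have h1 := coord_mem_of_frame he (G.isFrame j) ha hja h
      rwa [G.coord_comb] at h1
  by_contra! hall
  let q : Γ(X, U j) →+* X.presheaf.stalk a ⧸ N :=
    (Ideal.Quotient.mk N).comp (X.presheaf.germ _ a hja).hom
  have htop := G.gen j
    (((Ideal.Quotient.mk N).comp (Curv2.stalkMap k X a)).range.comap q)
    (fun c => ⟨c, by
      show Ideal.Quotient.mk N _ = Ideal.Quotient.mk N (X.presheaf.germ _ a hja _)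
      rw [InvX.germ_resR' (le_top : U j ≤ ⊤) hja, germ_sc]⟩)
    (fun l => ⟨_, (Ideal.Quotient.eq.2 (hall l)).symm⟩)
  have hN : N ≤ IsLocalRing.maximalIdeal (X.presheaf.stalk a) :=
    IsLocalRing.le_maximalIdeal fun h => hlt (h ▸ le_top)
  refine hlt fun x hx => ?_
  let haff : IsAffineOpen (U j) := G.affine j
  letI : Algebra Γ(X, U j) (X.presheaf.stalk a) := TopCat.Presheaf.algebra_section_stalk X.presheaf ⟨a, hja⟩
  haveI := haff.isLocalization_stalk ⟨a, hja⟩
  obtain ⟨⟨f, g⟩, hfg⟩ := IsLocalization.surj (haff.primeIdealOf ⟨a, hja⟩).asIdeal.primeCompl x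
  have hgu : IsUnit (X.presheaf.germ _ a hja (g : Γ(X, U j))) :=
    IsLocalization.map_units (X.presheaf.stalk a) g
  have hfm : X.presheaf.germ _ a hja f ∈ IsLocalRing.maximalIdeal (X.presheaf.stalk a) :=
    (show X.presheaf.germ _ a hja f = _ from hfg.symm) ▸ Ideal.mul_mem_right _ _ hx
  obtain ⟨c, hc⟩ := (htop ▸ Subring.mem_top f :
    f ∈ ((Ideal.Quotient.mk N).comp (Curv2.stalkMap k X a)).range.comap q)
  have hcN : X.presheaf.germ _ a hja f - Curv2.stalkMap k X a c ∈ N := Ideal.Quotient.eq.1 hc.symm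
  have hcm : Curv2.stalkMap k X a c ∈ IsLocalRing.maximalIdeal (X.presheaf.stalk a) := by
    simpa using sub_mem hfm (hN hcN)
  have hc0 : c = 0 := by
    by_contra h
    exact (IsLocalRing.mem_maximalIdeal _).1 hcm ((isUnit_iff_ne_zero.2 h).map _)
  rw [hc0, map_zero, sub_zero] at hcN
  exact (Ideal.mul_unit_mem_iff_mem _ hgu).1 ((show x * X.presheaf.germ _ a hja (g : Γ(X, U j)) = _ from hfg) ▸ hcN)

end Gen

end GenSections

section Twists

variable [Smooth (X ↘ Spec (CommRingCat.of k))] {ι : Type*} {s : ι → Γ(L, ⊤)} {U : ι → X.Opens}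
  {b₀ : ∀ j, ι → Γ(X, U j)}

/-- The dimensions of twists by two points. -/
theorem Gen.h0_twist (G : Gen k L s U b₀) (hdim : topologicalKrullDim X = 1) (hL : PicF.IsInvertible L) {a b : X}
    (hac : IsClosed ({a} : Set X)) (hbc : IsClosed ({b} : Set X)) :
    Module.finrank k (Coh.HH X (CohB1.tensorMod L (CohB1.tensorMod (CurvePoint.ptMod a hac) (CurvePoint.ptMod b hbc))) 0) + 2 =
      Module.finrank k (Coh.HH X L 0) := by
  haveI := CurveCohLib.isNoetherian_of_proper (k := k) (X := X)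
  obtain ⟨ψ₁, ψ₂, h1, h2, hJ1, hJ2, ⟨φ⟩⟩ := exists_twist₂ k hdim hL hac hbc
  have hM₁ := InvX.isInvertible_tensorMod (CurvePoint.isInvertible_ptMod a hac k hdim) hL
  rw [← (CurveCohLib.hhEquiv (k := k) φ 0).finrank_eq]
  have g1 := h0_twist_ge k hL hac
  have g2 := h0_twist_ge k hM₁ hbc
  have l1 : Module.finrank k (Coh.HH X (CohB1.tensorMod (CurvePoint.ptMod a hac) L) 0) <
      Module.finrank k (Coh.HH X L 0) := by
    obtain ⟨U, haU, e, he⟩ := exists_frame hL a
    obtain ⟨z, hz⟩ := G.exists_not_mem he haU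
    exact h0_lt k (CurveDeg.isCoh_of_isInvertible hL) ψ₁ z fun t ht =>
      hz (ht ▸ ptJ_self a ▸ hJ1.coord_mem he haU t)
  obtain ⟨U, haU, e, he⟩ := exists_frame hL a
  obtain ⟨U', hbU', e', he'⟩ := exists_frame hL b
  obtain ⟨z, hza, hzb⟩ : ∃ z : Γ(L, ⊤),
      coord he haU (L.presheaf.germ ⊤ a trivial z) ∈ IsLocalRing.maximalIdeal (X.presheaf.stalk a) ∧
      coord he' hbU' (L.presheaf.germ ⊤ b trivial z) ∉ ptJ b b * ptJ a b := by
    by_cases hba : b = a
    · subst hba
      haveI := CurveEmbed.isDVR_of_normal k hdim hac (CurveEmbed.isIntegrallyClosed_of_smooth k hdim hac (by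
        rw [(Scheme.Hom.smoothLocus_eq_top_iff (f := X ↘ Spec (CommRingCat.of k))).2 inferInstance]; trivial))
      obtain ⟨ϖ, hϖ⟩ := IsDiscreteValuationRing.exists_irreducible (X.presheaf.stalk b)
      obtain ⟨z, h1', h2'⟩ := G.exists_tan he' hbU' hac (IsLocalRing.maximalIdeal (X.presheaf.stalk b) ^ 2)
        fun h => by
          rw [hϖ.maximalIdeal_eq, Ideal.span_singleton_pow, Ideal.span_singleton_le_span_singleton] at h
          obtain ⟨c, hc⟩ := h
          exact hϖ.not_isUnit (IsUnit.of_mul_eq_one c (mul_left_cancel₀ hϖ.ne_zero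
            (show ϖ * (ϖ * c) = ϖ * 1 by rw [← mul_assoc, ← pow_two, ← hc, mul_one])))
      refine ⟨z, coord_mem_of_frame he' he hbU' haU h1', ?_⟩
      rwa [ptJ_self, ← pow_two]
    · obtain ⟨z, h1', h2'⟩ := G.exists_sep he he' haU hbU' hac hbc hba
      refine ⟨z, h1', ?_⟩
      rwa [ptJ_self, ptJ_ne hba, Ideal.mul_top]
  obtain ⟨t, ht⟩ := hJ1.exists_preimage hL z fun x V f hf hxV => by
    by_cases hxa : x = a
    · subst hxa
      rw [ptJ_self]
      exact coord_mem_of_frame he hf haU hxV hza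
    · rw [ptJ_ne hxa]; trivial
  have l2 := h0_lt k (CurveDeg.isCoh_of_isInvertible hM₁) ψ₂ t fun t' ht' =>
    hzb (ht ▸ ht' ▸ hJ2.coord_mem he' hbU' t')
  omega

end Twists

section Morphism

variable (r : X ⟶ CohB1.ProjSpace n k) [IsClosedImmersion r]
  (hr : r ≫ CohB1.ProjSpace.toSpec n k = X ↘ Spec (CommRingCat.of k))
  [Smooth (X ↘ Spec (CommRingCat.of k))]

include hr in
/-- The dimensions of twists by two points for a very ample module. -/
theorem h0_twist₂ (hdim : topologicalKrullDim X = 1) (hL : PicF.IsInvertible L) {a b : X}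
    (hac : IsClosed ({a} : Set X)) (hbc : IsClosed ({b} : Set X))
    (τ : (Scheme.Modules.pullback r).obj (Twist.twistProjSpace n k 1) ≅ L) :
    Module.finrank k (Coh.HH X (CohB1.tensorMod L (CohB1.tensorMod (CurvePoint.ptMod a hac) (CurvePoint.ptMod b hbc))) 0) + 2 =
      Module.finrank k (Coh.HH X L 0) :=
  (gen_of_isClosedImmersion k r hr τ).h0_twist k hdim hL hac hbc

end Morphism

end Groth.Agent.CurveVA
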