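import Groth.Agent.CurveEmbed.Main
import Groth.Agent.Lib.CurveSpecial
import Groth.Agent.Lib.CurveDualPrep

/-! Subsheaves of invertible modules with large Euler characteristic have no first cohomology. -/

noncomputable section

set_option linter.style.haveILetI false
set_option linter.unusedSectionVars false
set_option backward.isDefEq.respectTransparency false
set_option backward.isDefEq.respectTransparency.types false

universe u

open CategoryTheory CategoryTheory.Limits AlgebraicGeometry TopologicalSpace Opposite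
open Groth.Agent.PnCoh.Finite (mapLin)

namespace Groth.Agent.CurveVA

open Groth.Agent Groth.Agent.CurveBundle Groth.Agent.CurveSlope Groth.Agent.CurveSpecial Groth.Agent.InvX Groth.Agent.H23

variable {X : Scheme.{u}} (k : Type u) [Field k] [X.Over (Spec (CommRingCat.of k))] [IsIntegral X]
  [IsProper (X ↘ Spec (CommRingCat.of k))]

include k in
/-- A nonzero section of a submodule of an invertible module hits all of the first cohomology. -/
theorem surjective_h1 (hdim : topologicalKrullDim X = 1) {F L : X.Modules} (hL : PicF.IsInvertible L)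
    (j : F ⟶ L) [Mono j] {t : Coh.HH X F 0} (ht : t ≠ 0) :
    Function.Surjective (mapLin k (homOfClass t) 1) := by
  haveI := CurveCohLib.isNoetherian_of_proper (k := k) (X := X)
  let f := homOfClass t
  let u : Γ(F, ⊤) := Sheaf.H.equiv₀ (Coh.toAb F) isTerminalTop t
  let s : Γ(L, ⊤) := j.app ⊤ u
  have hs : s ≠ 0 := fun h => ht ((Sheaf.H.equiv₀ (Coh.toAb F) isTerminalTop).injective
    ((QCoh.app_injective j ⊤ (h.trans (map_zero (j.app ⊤).hom).symm)).trans (map_zero _).symm))
  have hfj : f ≫ j = ofSect s := CurveRR.hom_ext_one (by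
    show j.app ⊤ (f.app ⊤ (H23.Frame.one ⊤)) = (ofSect s).app ⊤ (H23.Frame.one ⊤)
    rw [homOfClass_one]
    exact (one_ofSect s).symm)
  haveI : Mono (f ≫ j) := by
    rw [hfj]
    exact InvEnd.mono_of_ne_zero CurveDeg.isInvertible_structureModule hL _ (CurveEmbed.ofSect_ne_zero hs)
  haveI : Mono f := mono_of_mono f j
  obtain ⟨S, hScl, hS⟩ := CurveEmbed.exists_zeros k hdim hL hs
  have hout : CurveEmbed.SurjOff f S := fun x hx U hxU n => by
    obtain ⟨W, hW, hxW, w, hw⟩ := CurveEmbed.surjOff_ofSect s S (fun y hy => (hS y).1 hy) x hx U hxU (j.app U n)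
    refine ⟨W, hW, hxW, w, QCoh.app_injective j W ?_⟩
    rw [AModX.app_res]
    refine Eq.trans ?_ hw
    rw [← hfj]
    rfl
  haveI := CurveVanish.subsingleton_HH_of_finite (M := cokernel f) S.finite_toSet hScl
    (fun x hx => not_not.1 fun h => hx (CurveEmbed.support_cokernel_subset hout h)) 0
  exact fun y => (CurveCohLib.ker_mapLin_g k (shortExact_cokernel_of_mono f) 1).le
    (LinearMap.mem_ker.2 (Subsingleton.elim (mapLin k (cokernel.π f) 1 y) 0))

include k in
/-- A submodule of an invertible module of Euler characteristic at least the genus is nonspecial. -/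
theorem subsingleton_h1 (hdim : topologicalKrullDim X = 1) {F L : X.Modules} (hL : PicF.IsInvertible L)
    (j : F ⟶ L) [Mono j] (hF : Coh.IsCoh F) (hχ : (Curv2.genus k X : ℤ) ≤ Curv2.euler k X F) :
    Subsingleton (Coh.HH X F 1) := by
  haveI := CurveCohLib.isNoetherian_of_proper (k := k) (X := X)
  haveI := CurveCohLib.finite_HH (k := k) hF 0
  haveI := CurveCohLib.finite_HH (k := k) hF 1
  haveI := CurveCohLib.finite_HH (k := k) (QCoh.isCoh_structureModule' (X := X)) 1
  by_contra hne
  rw [not_subsingleton_iff_nontrivial] at hne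
  obtain ⟨y, hy⟩ := exists_ne (0 : Coh.HH X F 1)
  obtain ⟨μ, hμ⟩ : ∃ μ : Coh.HH X F 1 →ₗ[k] k, μ y ≠ 0 := by
    haveI : Module.Free k (Coh.HH X F 1) := Module.Free.of_divisionRing k _
    by_contra h
    push Not at h
    exact hy ((Module.forall_dual_apply_eq_zero_iff k y).1 h)
  let Φ : Coh.HH X F 0 →ₗ[k] Module.Dual k (Coh.HH X (Coh.structureModule X) 1) :=
    { toFun := fun t => μ ∘ₗ mapLin k (homOfClass t) 1
      map_add' := fun s t => LinearMap.ext fun x => by
        show μ (mapLin k (homOfClass (s + t)) 1 x) = _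
        rw [homOfClass_add, CurveDuality.mapLin_add, map_add]
        rfl
      map_smul' := fun a t => LinearMap.ext fun x => by
        show μ (mapLin k (homOfClass (a • t)) 1 x) = a • μ (mapLin k (homOfClass t) 1 x)
        rw [homOfClass_smul, ← FFun.mapLin_comp, FFun.mapLin_smulMod, map_smul] }
  have hinj : Function.Injective Φ := (injective_iff_map_eq_zero Φ).2 fun t h => by
    by_contra ht
    obtain ⟨x, hx⟩ := surjective_h1 k hdim hL j ht y
    exact hμ (hx ▸ LinearMap.congr_fun h x)
  have h1 := LinearMap.finrank_le_finrank_of_injective hinj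
  rw [Subspace.dual_finrank_eq] at h1
  have h2 := CurveRR.euler_eq_h0_sub_h1 k hdim.le hF.1
  have h3 : 0 < Module.finrank k (Coh.HH X F 1) := Module.finrank_pos
  unfold Curv2.genus at hχ
  omega

include k in
/-- Invertible modules of degree at least `2g - 1` are nonspecial. -/
theorem subsingleton_h1_of_deg (hdim : topologicalKrullDim X = 1)
    (h0 : Module.finrank k (Coh.HH X (Coh.structureModule X) 0) = 1) {L : X.Modules} (hL : PicF.IsInvertible L)
    (hdeg : 2 * (Curv2.genus k X : ℤ) - 1 ≤ Curv2.deg k X L 1) : Subsingleton (Coh.HH X L 1) := by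
  haveI := CurveCohLib.isNoetherian_of_proper (k := k) (X := X)
  refine subsingleton_h1 k hdim hL (𝟙 L) (CurveDeg.isCoh_of_isInvertible hL) ?_
  have h2 := CurveRR.euler_eq_h0_sub_h1 k hdim.le (QCoh.isQCoh_structureModule (X := X))
  unfold Curv2.deg at hdeg
  unfold Curv2.genus at hdeg ⊢
  push_cast at hdeg
  omega

end Groth.Agent.CurveVA
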