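import Groth.Agent.CurveBC.Geometry
import Groth.Agent.CurveVA.Vanish
import Groth.Agent.InvX.GenLocusPull
import Groth.Agent.ZClosLib.FlatPullback
import Groth.Agent.KFlatLib.Scheme.FlatDescent
import Groth.Agent.ZClosLib.CohDescent

/-! Sections after extension of the base field. -/

noncomputable section

set_option linter.style.haveILetI false
set_option linter.unusedSectionVars false
set_option backward.isDefEq.respectTransparency false
set_option backward.isDefEq.respectTransparency.types false

universe u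

open CategoryTheory CategoryTheory.Limits AlgebraicGeometry TopologicalSpace Opposite
open Groth.Agent.PnCoh.Finite (mapLin)

namespace Groth.Agent.CurveVA

open Groth.Agent Groth.Agent.InvX Groth.Agent.H23

/-- The pullback of a global section. -/
def pullTop {X' X : Scheme.{u}} (g : X' ⟶ X) (M : X.Modules) (s : Γ(M, ⊤)) :
    Γ((Scheme.Modules.pullback g).obj M, ⊤) :=
  InvX.pullElt g s

theorem pullTop_natural {X' X : Scheme.{u}} (g : X' ⟶ X) {M N : X.Modules} (φ : M ⟶ N) (s : Γ(M, ⊤)) :
    ((Scheme.Modules.pullback g).map φ).app ⊤ (pullTop g M s) = pullTop g N (φ.app ⊤ s) :=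
  congr($((Scheme.Modules.pullbackPushforwardAdjunction g).unit.naturality φ).app ⊤ s).symm

variable (k : Type u) [Field k] {X : Scheme.{u}} [X.Over (Spec (CommRingCat.of k))]
  [IsProper (X ↘ Spec (CommRingCat.of k))]
  (h0 : Module.finrank k (Coh.HH X (Coh.structureModule X) 0) = 1)
  (K : Type u) [Field K] [Algebra k K] {X' : Scheme.{u}} [X'.Over (Spec (CommRingCat.of K))]
  [IsProper (X' ↘ Spec (CommRingCat.of K))] [Nonempty X']
  (g : X' ⟶ X) [Flat g] [Surjective g]
  (hpb : IsPullback g (X' ↘ Spec (CommRingCat.of K)) (X ↘ Spec (CommRingCat.of k))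
      (Spec.map (CommRingCat.ofHom (algebraMap k K))))

include h0 hpb

/-- A basis of the sections spans the sections after extension of the field. -/
theorem exists_comb {M : X.Modules} (hM : Coh.IsCoh M)
    (hM' : Module.Finite K (Coh.HH X' ((Scheme.Modules.pullback g).obj M) 0))
    {n : ℕ} (b : Module.Basis (Fin n) k (Coh.HH X M 0)) (z : Γ((Scheme.Modules.pullback g).obj M, ⊤)) :
    ∃ c : Fin n → K, z = ∑ i, (show Γ(X', ⊤) from Coh.resTop X' (op ⊤) (Coh.toGlobal (X' ↘ Spec (CommRingCat.of K)) (c i))) •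
      pullTop g M (Sheaf.H.equiv₀ (Coh.toAb M) isTerminalTop (b i) : Γ(M, ⊤)) := by
  classical
  haveI := quasiSeparatedSpace_of_quasiSeparated (X ↘ Spec (CommRingCat.of k))
  haveI := QuasiCompact.compactSpace_of_compactSpace (X ↘ Spec (CommRingCat.of k))
  haveI := CurveCohLib.isNoetherian_of_proper (k := k) (X := X)
  let P := Scheme.Modules.pullback g
  haveI : P.Additive :=
    Adjunction.left_adjoint_additive (Scheme.Modules.pullbackPushforwardAdjunction g)
  haveI := KFlatLib.preservesHomology_pullback g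
  haveI := Functor.preservesFiniteLimits_of_preservesHomology P
  haveI := Functor.preservesFiniteColimits_of_preservesHomology P
  let e₀ := Sheaf.H.equiv₀ (Coh.toAb M) isTerminalTop
  let σ : Fin n → Γ(M, ⊤) := fun i => e₀ (b i)
  let q : FlatMod.freeMod X n ⟶ M := Sigma.desc fun i => QCoh.homOfTop (σ i)
  have hq : ∀ i, (H23.Frame.incl X n i ≫ q).app ⊤ (H23.Frame.one ⊤) = σ i := fun i => by
    rw [show H23.Frame.incl X n i ≫ q = QCoh.homOfTop (σ i) from Sigma.ι_desc _ _]
    show (QCoh.homOfTop (σ i)).app ⊤ (1 : Γ(X, ⊤)) = σ i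
    rw [QCoh.homOfTop_app, one_smul]
    exact ConcreteCategory.congr_hom (M.presheaf.map_id _) _
  have hqinj : ∀ x : Γ(FlatMod.freeMod X n, ⊤), q.app ⊤ x = 0 → x = 0 := fun x hx => by
    have hsum := H23.Frame.free_eq_sum ⊤ x
    choose a ha using fun i => (CurveBC.bijective_appTop k X h0).2
      (show Γ(X, ⊤) from (H23.Frame.proj X n i).app ⊤ x)
    let c : Fin n → k := fun i => (Scheme.ΓSpecIso (CommRingCat.of k)).hom (a i)
    have hc : ∀ i, (show Γ(X, ⊤) from (H23.Frame.proj X n i).app ⊤ x) =
        (show Γ(X, ⊤) from Coh.resTop X (op ⊤) (Coh.toGlobal (X ↘ Spec (CommRingCat.of k)) (c i))) := fun i => by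
      refine ((ha i).symm.trans ?_).trans (ConcreteCategory.congr_hom (X.presheaf.map_id (op ⊤)) _).symm
      exact congrArg (X ↘ Spec (CommRingCat.of k)).appTop
        ((Scheme.ΓSpecIso (CommRingCat.of k)).hom_inv_id_apply (a i)).symm
    have h1 : ∑ i, c i • b i = 0 := by
      apply e₀.injective
      rw [map_zero, map_sum]
      refine Eq.trans (Finset.sum_congr rfl fun i _ => ?_) ((congrArg (q.app ⊤) hsum).trans hx |> (map_sum (q.app ⊤).hom _ _).symm.trans)
      refine (CurveCohLib.h0Equiv_smul M (c i) (b i)).trans ?_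
      rw [Scheme.Modules.Hom.app_smul, ← hc i]
      exact congrArg (_ • ·) (hq i).symm
    have h2 := Fintype.linearIndependent_iff.1 b.linearIndependent c h1
    rw [← hsum]
    refine Finset.sum_eq_zero fun i _ => ?_
    rw [hc i, h2 i, map_zero, map_zero]
    exact zero_smul Γ(X, ⊤) _
  have hF : Coh.IsQCoh (FlatMod.freeMod X n) :=
    QCoh.isQCoh_of_isFinLocFree (KFlatLib.isFinLocFree_freeMod n)
  let N := kernel q
  have hN : Coh.IsQCoh N := QCoh.isQCoh_kernel hF hM.1 q
  haveI : Subsingleton (Coh.HH X N 0) := ⟨fun s t => by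
    apply (Sheaf.H.equiv₀ (Coh.toAb N) isTerminalTop).injective
    refine QCoh.app_injective (kernel.ι q) ⊤ ?_
    have hz : ∀ u : Γ(N, ⊤), (kernel.ι q).app ⊤ u = 0 := fun u =>
      hqinj _ (congr($(kernel.condition q).app ⊤ u))
    exact (hz _).trans (hz _).symm⟩
  have hfr : Module.finrank K (Coh.HH X' (P.obj N) 0) = 0 := by
    rw [CurveBC.finrank_hh k K g hpb N hN 0]
    exact Module.finrank_zero_of_subsingleton (R := k)
  haveI : Subsingleton (Coh.HH X' (P.obj N) 0) := by
    haveI := CurveCohLib.isNoetherian_of_proper (k := K) (X := X')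
    haveI := CurveCohLib.finite_HH (k := K) (ZClosLib.isCoh_pullback g
      (QCoh.isCoh_kernel (CurveDeg.isCoh_of_isFinLocFree (KFlatLib.isFinLocFree_freeMod n)) hM q)) 0
    exact Module.finrank_zero_iff.1 hfr
  let o : Γ(P.obj (Coh.structureModule X), ⊤) := pullTop g _ (show Γ(Coh.structureModule X, ⊤) from (1 : Γ(X, ⊤)))
  have ho : InvX.IsFrame o := InvX.isFrame_pullElt g (InvX.isFrame_one ⊤)
  let e₁ := Sheaf.H.equiv₀ (Coh.toAb (P.obj M)) isTerminalTop
  let v : Fin n → Coh.HH X' (P.obj M) 0 := fun i => e₁.symm (pullTop g M (σ i))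
  let sc : K → Γ(X', ⊤) := fun c => Coh.resTop X' (op ⊤) (Coh.toGlobal (X' ↘ Spec (CommRingCat.of K)) c)
  have hv : ∀ (c : Fin n → K), e₁ (∑ i, c i • v i) = ∑ i, sc (c i) • pullTop g M (σ i) := fun c => by
    rw [map_sum]
    refine Finset.sum_congr rfl fun i _ => (CurveCohLib.h0Equiv_smul (P.obj M) (c i) (v i)).trans ?_
    exact congrArg (_ • ·) (e₁.apply_symm_apply _)
  have hli : LinearIndependent K v := Fintype.linearIndependent_iff.2 fun c hc i => by
    let w : Γ(P.obj (FlatMod.freeMod X n), ⊤) :=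
      ∑ i, sc (c i) • (P.map (H23.Frame.incl X n i)).app ⊤ o
    have hw : (P.map q).app ⊤ w = 0 := by
      rw [← map_zero e₁, ← hc, hv, map_sum]
      refine Finset.sum_congr rfl fun i _ => ?_
      rw [Scheme.Modules.Hom.app_smul]
      refine congrArg (_ • ·) ?_
      show ((P.map (H23.Frame.incl X n i)) ≫ P.map q).app ⊤ o = _
      rw [← P.map_comp, pullTop_natural]
      exact congrArg (pullTop g M) (hq i)
    have hw0 : w = 0 := by
      have hS := (ShortComplex.exact_of_f_is_kernel (ShortComplex.mk _ q (kernel.condition q))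
        (kernelIsKernel q)).map P
      haveI : Mono (P.map (kernel.ι q)) := inferInstance
      obtain ⟨u, hu⟩ := CurveEmbed.exists_preimage (P.map (kernel.ι q)) w fun x => by
        have hgw : (DerSch.stalkFunctor X' x).map (P.map q) ((P.obj (FlatMod.freeMod X n)).presheaf.germ ⊤ x trivial w) = 0 := by
          refine (TopCat.Presheaf.stalkFunctor_map_germ_apply ⊤ x trivial
            ((Scheme.Modules.toPresheaf X').map (P.map q)) w).trans ?_
          exact (congrArg ((P.obj M).presheaf.germ ⊤ x trivial) hw).trans (map_zero _)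
        obtain ⟨m, hm⟩ := (ShortComplex.moduleCat_exact_iff _).1 (hS.map (DerSch.stalkFunctor X' x)) _ hgw
        obtain ⟨V, hxV, t, rfl⟩ := TopCat.Presheaf.exists_germ_eq (P.obj N).presheaf m
        have hm' := (TopCat.Presheaf.stalkFunctor_map_germ_apply V x hxV
          ((Scheme.Modules.toPresheaf X').map (P.map (kernel.ι q))) t).symm.trans hm
        obtain ⟨W, hxW, i, j, hW⟩ := (P.obj (FlatMod.freeMod X n)).presheaf.germ_eq (U := V) (V := ⊤) x hxV trivial _ _ hm'
        exact ⟨W, hxW, AModX.res (P.obj N) i.le t, (AModX.app_res _ _ _).trans hW⟩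
      rw [← hu, show u = 0 from (Sheaf.H.equiv₀ (Coh.toAb (P.obj N)) isTerminalTop).symm.injective (Subsingleton.elim _ _), map_zero]
    have hp := congrArg ((P.map (H23.Frame.proj X n i)).app ⊤) hw0
    rw [map_zero, map_sum, Finset.sum_eq_single i] at hp
    · rw [Scheme.Modules.Hom.app_smul] at hp
      have hii : (P.map (H23.Frame.proj X n i)).app ⊤ ((P.map (H23.Frame.incl X n i)).app ⊤ o) = o := by
        show ((P.map (H23.Frame.incl X n i)) ≫ P.map (H23.Frame.proj X n i)).app ⊤ o = o
        rw [← P.map_comp, H23.Frame.incl_proj, if_pos rfl, P.map_id]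
        rfl
      rw [hii] at hp
      have h1 : sc (c i) = 0 := ho.coord_unique le_rfl (r := sc (c i)) (r' := 0)
        (by rw [AModX.res_self, zero_smul]; exact hp)
      haveI : Nonempty ↥(⊤ : X'.Opens) := ⟨⟨Classical.arbitrary X', trivial⟩⟩
      exact ((ConcreteCategory.hom (X' ↘ Spec (CommRingCat.of K)).appTop).comp
        (Scheme.ΓSpecIso (CommRingCat.of K)).inv.hom).injective
          (((ConcreteCategory.congr_hom (X'.presheaf.map_id (op ⊤)) _).symm.trans h1).trans (map_zero _).symm)
    · intro j _ hj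
      rw [Scheme.Modules.Hom.app_smul]
      have hji : (P.map (H23.Frame.proj X n i)).app ⊤ ((P.map (H23.Frame.incl X n j)).app ⊤ o) = 0 := by
        show ((P.map (H23.Frame.incl X n j)) ≫ P.map (H23.Frame.proj X n i)).app ⊤ o = 0
        rw [← P.map_comp, H23.Frame.incl_proj, if_neg hj, P.map_zero]
        rfl
      rw [hji, smul_zero]
    · intro h; exact absurd (Finset.mem_univ i) h
  have hspan : Submodule.span K (Set.range v) = ⊤ := by
    rcases Nat.eq_zero_or_pos n with hn | hn
    · have h3 : Module.finrank K (Coh.HH X' (P.obj M) 0) = 0 := by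
        rw [CurveBC.finrank_hh k K g hpb M hM.1 0, Module.finrank_eq_card_basis b, Fintype.card_fin, hn]
      haveI := Module.finrank_zero_iff.1 h3
      exact Subsingleton.elim _ _
    · haveI : Nonempty (Fin n) := ⟨⟨0, hn⟩⟩
      refine hli.span_eq_top_of_card_eq_finrank ?_
      rw [CurveBC.finrank_hh k K g hpb M hM.1 0, Module.finrank_eq_card_basis b]
  obtain ⟨c, hc⟩ := (Submodule.mem_span_range_iff_exists_fun K).1 (show e₁.symm z ∈ Submodule.span K (Set.range v) by rw [hspan]; trivial)
  exact ⟨c, ((e₁.apply_symm_apply z).symm.trans (congrArg e₁ hc.symm)).trans (hv c)⟩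

end Groth.Agent.CurveVA
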