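import Groth.Agent.CurveVA.Sky
import Groth.Agent.S10867
import Mathlib.RingTheory.Ideal.Cotangent
import Mathlib.LinearAlgebra.Dimension.Free

/-! Maps given by all sections of a module of large degree are closed immersions. -/

noncomputable section

set_option linter.style.haveILetI false
set_option linter.unusedSectionVars false
set_option backward.isDefEq.respectTransparency false
set_option backward.isDefEq.respectTransparency.types false

universe u

open CategoryTheory CategoryTheory.Limits AlgebraicGeometry TopologicalSpace Opposite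

namespace Groth.Agent.CurveVA

open Groth.Agent Groth.Agent.InvX Groth.Agent.H23

variable {X : Scheme.{u}} {L : X.Modules}

/-- The coordinate of a germ with respect to a frame. -/
def coord {U : X.Opens} {e : Γ(L, U)} (he : IsFrame e) {x : X} (hxU : x ∈ U) :
    L.presheaf.stalk x →+ X.presheaf.stalk x :=
  AddEquiv.toAddMonoidHom (AddEquiv.ofBijective
    (AddMonoidHom.mk' (fun c : X.presheaf.stalk x => c • L.presheaf.germ U x hxU e) fun a b => add_smul a b _)
    (he.germ_bijective hxU)).symm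

theorem coord_smul_germ {U : X.Opens} {e : Γ(L, U)} (he : IsFrame e) {x : X} (hxU : x ∈ U)
    (c : X.presheaf.stalk x) : coord he hxU (c • L.presheaf.germ U x hxU e) = c :=
  (AddEquiv.ofBijective
    (AddMonoidHom.mk' (fun c : X.presheaf.stalk x => c • L.presheaf.germ U x hxU e) fun a b => add_smul a b _)
    (he.germ_bijective hxU)).symm_apply_apply c

theorem coord_smul {U : X.Opens} {e : Γ(L, U)} (he : IsFrame e) {x : X} (hxU : x ∈ U)
    (a : X.presheaf.stalk x) (m : L.presheaf.stalk x) : coord he hxU (a • m) = a * coord he hxU m := by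
  obtain ⟨c, rfl⟩ := (he.germ_bijective hxU).2 m
  show coord he hxU (a • c • _) = a * coord he hxU (c • _)
  rw [coord_smul_germ]
  exact (congrArg (coord he hxU) (mul_smul a c _).symm).trans (coord_smul_germ he hxU _)

theorem coord_germ {U W : X.Opens} {e : Γ(L, U)} (he : IsFrame e) (hW : W ≤ U) {x : X} (hx : x ∈ W)
    (r : Γ(X, W)) :
    coord he (hW hx) (L.presheaf.germ W x hx (r • AModX.res L hW e)) = X.presheaf.germ W x hx r := by
  rw [QCoh.germ_smul', InvX.germ_res' hW hx e]
  exact coord_smul_germ he (hW hx) _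

variable (k : Type u) [Field k] [IsAlgClosed k] [X.Over (Spec (CommRingCat.of k))]
  [IsProper (X ↘ Spec (CommRingCat.of k))]

/-- The value at a closed point as an element of the base field. -/
def resInv {x : X} (hx : IsClosed ({x} : Set X)) : X.residueField x →+* k :=
  (RingEquiv.ofBijective (Curv2.resMap k X x)
    ⟨(Curv2.resMap k X x).injective, CurveSection.surjective_resMap k hx⟩).symm.toRingHom

theorem resInv_resMap {x : X} (hx : IsClosed ({x} : Set X)) (c : k) :
    resInv k hx (Curv2.resMap k X x c) = c :=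
  (RingEquiv.ofBijective (Curv2.resMap k X x)
    ⟨(Curv2.resMap k X x).injective, CurveSection.surjective_resMap k hx⟩).symm_apply_apply c

theorem resInv_eq_zero {x : X} (hx : IsClosed ({x} : Set X)) (a : X.presheaf.stalk x) :
    resInv k hx (X.residue x a) = 0 ↔ a ∈ IsLocalRing.maximalIdeal (X.presheaf.stalk x) := by
  rw [map_eq_zero_iff _ (resInv k hx).injective]
  exact IsLocalRing.residue_eq_zero_iff a

/-- The value of a germ in a frame. -/
def valFun {U : X.Opens} {e : Γ(L, U)} (he : IsFrame e) {x : X} (hxU : x ∈ U)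
    (hx : IsClosed ({x} : Set X)) : L.presheaf.stalk x →+ k :=
  ((resInv k hx).toAddMonoidHom.comp (X.residue x).hom.toAddMonoidHom).comp (coord he hxU)

theorem valFun_eq_zero {U : X.Opens} {e : Γ(L, U)} (he : IsFrame e) {x : X} (hxU : x ∈ U)
    (hx : IsClosed ({x} : Set X)) (m : L.presheaf.stalk x) :
    valFun k he hxU hx m = 0 ↔ coord he hxU m ∈ IsLocalRing.maximalIdeal (X.presheaf.stalk x) :=
  resInv_eq_zero k hx _

theorem isResLinear_valFun {U : X.Opens} {e : Γ(L, U)} (he : IsFrame e) {x : X} (hxU : x ∈ U)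
    (hx : IsClosed ({x} : Set X)) : IsResLinear k x (valFun k he hxU hx) := fun a m c hc => by
  show resInv k hx (X.residue x (coord he hxU (a • m))) = c * resInv k hx (X.residue x (coord he hxU m))
  rw [coord_smul, map_mul, map_mul, hc, resInv_resMap]

theorem valFun_germ {U : X.Opens} {e : Γ(L, U)} (he : IsFrame e) {x : X} (hxU : x ∈ U)
    (hx : IsClosed ({x} : Set X)) : valFun k he hxU hx (L.presheaf.germ U x hxU e) = 1 := by
  show resInv k hx (X.residue x (coord he hxU _)) = 1
  rw [← one_smul (X.presheaf.stalk x) (L.presheaf.germ U x hxU e), coord_smul_germ, map_one, map_one]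

/-- The chart condition, for sections separating points and tangent vectors. -/
theorem isClosedImmersion_of_separation
    (hsep : ∀ {U : X.Opens} {e : Γ(L, U)} (he : IsFrame e) {a b : X} (ha : a ∈ U) (hb : b ∈ U),
      IsClosed ({a} : Set X) → IsClosed ({b} : Set X) → b ≠ a →
      ∃ z : Γ(L, ⊤), coord he ha (L.presheaf.germ ⊤ a trivial z) ∈ IsLocalRing.maximalIdeal (X.presheaf.stalk a) ∧
        coord he hb (L.presheaf.germ ⊤ b trivial z) ∉ IsLocalRing.maximalIdeal (X.presheaf.stalk b))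
    (htan : ∀ {U : X.Opens} {e : Γ(L, U)} (he : IsFrame e) {a : X} (ha : a ∈ U), IsClosed ({a} : Set X) →
      ∀ N : Ideal (X.presheaf.stalk a), IsLocalRing.maximalIdeal (X.presheaf.stalk a) ^ 2 ≤ N →
      ¬ IsLocalRing.maximalIdeal (X.presheaf.stalk a) ≤ N →
      ∃ z : Γ(L, ⊤), coord he ha (L.presheaf.germ ⊤ a trivial z) ∈ IsLocalRing.maximalIdeal (X.presheaf.stalk a) ∧
        coord he ha (L.presheaf.germ ⊤ a trivial z) ∉ N)
    {Y : Scheme.{u}} (q : Y ⟶ Spec (CommRingCat.of k)) [LocallyOfFiniteType q] [QuasiCompact q]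
    [IsSeparated q] (g : X ⟶ Y) (hg : g ≫ q = X ↘ Spec (CommRingCat.of k))
    (hchart : ∀ y : Y, ∃ (V : Y.Opens) (_ : y ∈ V) (e : Γ(L, g ⁻¹ᵁ V)), IsFrame e ∧
      ∀ z : Γ(L, ⊤), ∃ r : Γ(Y, V), AModX.res L (le_top : g ⁻¹ᵁ V ≤ ⊤) z = g.app V r • e) :
    IsClosedImmersion g := by
  haveI : IsProper g := by
    haveI : IsProper (g ≫ q) := by rw [hg]; infer_instance
    exact IsProper.of_comp g q
  haveI : LocallyOfFiniteType (g ≫ q) := by rw [hg]; infer_instance
  have key : ∀ (V : Y.Opens) (e : Γ(L, g ⁻¹ᵁ V)) (he : IsFrame e) (x : X) (hxV : x ∈ g ⁻¹ᵁ V)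
      (z : Γ(L, ⊤)) (r : Γ(Y, V)), AModX.res L (le_top : g ⁻¹ᵁ V ≤ ⊤) z = g.app V r • e →
      coord he hxV (L.presheaf.germ ⊤ x trivial z) = g.stalkMap x (Y.presheaf.germ V (g x) hxV r) := by
    intro V e he x hxV z r h
    rw [← InvX.germ_res' (le_top : g ⁻¹ᵁ V ≤ ⊤) hxV z, h, QCoh.germ_smul', coord_smul_germ,
      Scheme.Hom.germ_stalkMap_apply]
  refine S10867.result k g q (fun a ha b hb hab => ?_) fun a ha => ?_
  · by_contra hne
    obtain ⟨V, hV, e, he, hz⟩ := hchart (g a)
    have haV : a ∈ g ⁻¹ᵁ V := hV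
    have hbV : b ∈ g ⁻¹ᵁ V := (show g b ∈ V from (hab : g a = g b) ▸ hV)
    obtain ⟨z, hza, hzb⟩ := hsep he haV hbV ha hb (Ne.symm hne)
    obtain ⟨r, hr⟩ := hz z
    rw [key V e he a haV z r hr] at hza
    rw [key V e he b hbV z r hr] at hzb
    have hya : g a ∉ Y.basicOpen r := fun h => by
      rw [Y.mem_basicOpen _ (g a) haV] at h
      exact (IsLocalRing.mem_maximalIdeal _).1 hza (h.map (g.stalkMap a).hom)
    have hyb : g b ∈ Y.basicOpen r := by
      rw [Y.mem_basicOpen _ (g b) hbV]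
      exact (isUnit_map_iff (g.stalkMap b).hom _).1 (by
        by_contra h
        exact hzb ((IsLocalRing.mem_maximalIdeal _).2 h))
    exact hya ((hab : g a = g b) ▸ hyb)
  · set M := Ideal.map (g.stalkMap a).hom (IsLocalRing.maximalIdeal (Y.presheaf.stalk (g a))) with hM
    refine le_antisymm (sup_le ?_ (Ideal.pow_le_self two_ne_zero)) ?_
    · rw [Ideal.map_le_iff_le_comap]
      intro r hr
      exact (IsLocalRing.mem_maximalIdeal _).2 fun h =>
        (IsLocalRing.mem_maximalIdeal _).1 hr ((isUnit_map_iff (g.stalkMap a).hom r).1 h)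
    by_contra hlt
    obtain ⟨V, hV, e, he, hz⟩ := hchart (g a)
    obtain ⟨z, hzm, hzN⟩ := htan he (hV : a ∈ g ⁻¹ᵁ V) ha _ le_sup_right hlt
    obtain ⟨r, hr⟩ := hz z
    rw [key V e he a hV z r hr] at hzm hzN
    exact hzN (Ideal.mem_sup_left (Ideal.mem_map_of_mem _ ((IsLocalRing.mem_maximalIdeal _).2 fun h =>
      (IsLocalRing.mem_maximalIdeal _).1 hzm (h.map (g.stalkMap a).hom))))

variable [IsIntegral X]

section Sub

variable (hdim : topologicalKrullDim X = 1) (hL : PicF.IsInvertible L)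
  (hχ : (Curv2.genus k X : ℤ) + 2 ≤ Curv2.euler k X L)
  {U : X.Opens} {e : Γ(L, U)} (he : IsFrame e) {a : X} (ha : a ∈ U) (hac : IsClosed ({a} : Set X))

include hdim hL hχ hac

/-- Sections separate two closed points. -/
theorem exists_separate {b : X} (hb : b ∈ U) (hbc : IsClosed ({b} : Set X)) (hne : b ≠ a) :
    ∃ z : Γ(L, ⊤), coord he ha (L.presheaf.germ ⊤ a trivial z) ∈ IsLocalRing.maximalIdeal (X.presheaf.stalk a) ∧
      coord he hb (L.presheaf.germ ⊤ b trivial z) ∉ IsLocalRing.maximalIdeal (X.presheaf.stalk b) := by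
  haveI := CurveCohLib.isNoetherian_of_proper (k := k) (X := X)
  let l₀ := valFun k he ha hac
  have hl₀ : IsResLinear k a l₀ := isResLinear_valFun k he ha hac
  have hm₀ : l₀ (L.presheaf.germ U a ha e) ≠ 0 := by rw [valFun_germ]; exact one_ne_zero
  have hLc := CurveDeg.isCoh_of_isInvertible hL
  obtain ⟨hK, hKe⟩ := euler_kernel_skyMap k hac l₀ hl₀ hLc hm₀
  let j := kernel.ι (skyMap k hac l₀ hl₀)
  let F := DerSch.stalkFunctor X b
  let l : (kernel (skyMap k hac l₀ hl₀)).presheaf.stalk b →+ k :=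
    (valFun k he hb hbc).comp (F.map j).hom.toAddMonoidHom
  have hl : IsResLinear k b l := fun r m c hc => by
    show valFun k he hb hbc (F.map j (r • m)) = c * valFun k he hb hbc (F.map j m)
    rw [map_smul (F.map j).hom]
    exact isResLinear_valFun k he hb hbc r _ c hc
  let W : X.Opens := U ⊓ ⟨({a} : Set X)ᶜ, hac.isOpen_compl⟩
  have hbW : b ∈ W := ⟨hb, hne⟩
  obtain ⟨m, hm⟩ := exists_kernel_germ k hac l₀ hl₀ hm₀ hbW (AModX.res L (inf_le_left : W ≤ U) e)
    fun h => absurd rfl h.2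
  have hlm : l m ≠ 0 := by
    show valFun k he hb hbc (F.map j m) ≠ 0
    rw [hm, InvX.germ_res' (inf_le_left : W ≤ U) hbW e, valFun_germ]
    exact one_ne_zero
  obtain ⟨t, ht⟩ := exists_section k l hdim hL j hK (by omega) hbc hlm hl
  refine ⟨j.app ⊤ t, ?_, fun h => ht ?_⟩
  · rw [← valFun_eq_zero k he ha hac]
    refine (skyMap_app_eq_zero k hac l₀ hl₀ (U := ⊤) (j.app ⊤ t)).1 ?_ trivial
    exact congr($(kernel.condition (skyMap k hac l₀ hl₀)).app ⊤ t)
  · show valFun k he hb hbc (F.map j ((kernel (skyMap k hac l₀ hl₀)).presheaf.germ ⊤ b trivial t)) = 0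
    rw [show F.map j ((kernel (skyMap k hac l₀ hl₀)).presheaf.germ ⊤ b trivial t) =
        L.presheaf.germ ⊤ b trivial (j.app ⊤ t) from
      TopCat.Presheaf.stalkFunctor_map_germ_apply ⊤ b trivial ((Scheme.Modules.toPresheaf X).map j) t]
    exact (valFun_eq_zero k he hb hbc _).2 h

/-- Sections span the cotangent space. -/
theorem exists_tangent (N : Ideal (X.presheaf.stalk a))
    (hN : IsLocalRing.maximalIdeal (X.presheaf.stalk a) ^ 2 ≤ N)
    (hlt : ¬ IsLocalRing.maximalIdeal (X.presheaf.stalk a) ≤ N) :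
    ∃ z : Γ(L, ⊤), coord he ha (L.presheaf.germ ⊤ a trivial z) ∈ IsLocalRing.maximalIdeal (X.presheaf.stalk a) ∧
      coord he ha (L.presheaf.germ ⊤ a trivial z) ∉ N := by
  haveI := CurveCohLib.isNoetherian_of_proper (k := k) (X := X)
  let R := X.presheaf.stalk a
  let 𝔪 := IsLocalRing.maximalIdeal R
  obtain ⟨a₀, ha₀, ha₀N⟩ := Set.not_subset.1 hlt
  let C := IsLocalRing.CotangentSpace R
  let Wsub : Submodule (IsLocalRing.ResidueField R) C :=
    { toAddSubmonoid := ((Submodule.comap 𝔪.subtype N).map 𝔪.toCotangent).toAddSubmonoid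
      smul_mem' := fun c v hv => by
        obtain ⟨r, rfl⟩ := IsLocalRing.residue_surjective c
        exact Submodule.smul_mem _ r hv }
  have hnot : 𝔪.toCotangent ⟨a₀, ha₀⟩ ∉ Wsub := fun h => by
    obtain ⟨⟨n, hn⟩, hnN, hne⟩ := (Submodule.mem_map.1 h)
    have h2 := (Ideal.toCotangent_eq 𝔪).1 hne
    exact ha₀N (by simpa using N.sub_mem hnN (hN h2))
  obtain ⟨δ, hδ, hW⟩ := Submodule.exists_le_ker_of_notMem hnot
  let l₀ := valFun k he ha hac
  have hl₀ : IsResLinear k a l₀ := isResLinear_valFun k he ha hac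
  have hm₀ : l₀ (L.presheaf.germ U a ha e) ≠ 0 := by rw [valFun_germ]; exact one_ne_zero
  have hLc := CurveDeg.isCoh_of_isInvertible hL
  obtain ⟨hK, hKe⟩ := euler_kernel_skyMap k hac l₀ hl₀ hLc hm₀
  let j := kernel.ι (skyMap k hac l₀ hl₀)
  let F := DerSch.stalkFunctor X a
  have hmem : ∀ m, coord he ha (F.map j m) ∈ 𝔪 := fun m => by
    obtain ⟨V, hV, s, rfl⟩ := TopCat.Presheaf.exists_germ_eq (kernel (skyMap k hac l₀ hl₀)).presheaf m
    rw [show F.map j ((kernel (skyMap k hac l₀ hl₀)).presheaf.germ V a hV s) =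
        L.presheaf.germ V a hV (j.app V s) from
      TopCat.Presheaf.stalkFunctor_map_germ_apply V a hV ((Scheme.Modules.toPresheaf X).map j) s]
    rw [← valFun_eq_zero k he ha hac]
    exact (skyMap_app_eq_zero k hac l₀ hl₀ _).1
      (congr($(kernel.condition (skyMap k hac l₀ hl₀)).app V s)) hV
  let θ : (kernel (skyMap k hac l₀ hl₀)).presheaf.stalk a →+ 𝔪 :=
    AddMonoidHom.mk' (fun m => (⟨coord he ha (F.map j m), hmem m⟩ : 𝔪)) fun p q => Subtype.ext (by
      show coord he ha (F.map j (p + q)) = coord he ha (F.map j p) + coord he ha (F.map j q)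
      rw [map_add (F.map j).hom, map_add])
  let l : (kernel (skyMap k hac l₀ hl₀)).presheaf.stalk a →+ k :=
    (resInv k hac).toAddMonoidHom.comp
      ((δ.toAddMonoidHom.comp 𝔪.toCotangent.toAddMonoidHom).comp θ)
  have hl : IsResLinear k a l := fun r m c hc => by
    show resInv k hac (δ (𝔪.toCotangent (θ (r • m)))) = c * resInv k hac (δ (𝔪.toCotangent (θ m)))
    have h1 : θ (r • m) = r • θ m := Subtype.ext (by
      show coord he ha (F.map j (r • m)) = r * coord he ha (F.map j m)
      rw [map_smul (F.map j).hom]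
      exact coord_smul he ha r _)
    rw [h1, map_smul]
    show resInv k hac (δ (IsLocalRing.residue R r • 𝔪.toCotangent (θ m))) = _
    rw [map_smul, smul_eq_mul]
    refine (map_mul (resInv k hac) _ _).trans ?_
    rw [show IsLocalRing.residue R r = Curv2.resMap k X a c from hc, resInv_resMap]
  obtain ⟨V, haV, r₀, hr₀⟩ := TopCat.Presheaf.exists_germ_eq X.presheaf a₀
  let W : X.Opens := U ⊓ V
  have haW : a ∈ W := ⟨ha, haV⟩
  let r : Γ(X, W) := X.presheaf.map (homOfLE (inf_le_right : W ≤ V)).op r₀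
  have hr : X.presheaf.germ W a haW r = a₀ :=
    (TopCat.Presheaf.germ_res_apply X.presheaf _ a haW r₀).trans hr₀
  have hs : coord he ha (L.presheaf.germ W a haW (r • AModX.res L (inf_le_left : W ≤ U) e)) = a₀ :=
    (coord_germ he (inf_le_left : W ≤ U) haW r).trans hr
  obtain ⟨m, hm⟩ := exists_kernel_germ k hac l₀ hl₀ hm₀ haW (r • AModX.res L (inf_le_left : W ≤ U) e)
    fun h => (valFun_eq_zero k he ha hac _).2 (by rw [hs]; exact ha₀)
  have hlm : l m ≠ 0 := by
    show resInv k hac (δ (𝔪.toCotangent (θ m))) ≠ 0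
    rw [show θ m = ⟨a₀, ha₀⟩ from Subtype.ext ((congrArg (coord he ha) hm).trans hs)]
    exact fun h => hδ ((resInv k hac).injective (h.trans (map_zero _).symm))
  obtain ⟨t, ht⟩ := exists_section k l hdim hL j hK (by omega) hac hlm hl
  have e1 : F.map j ((kernel (skyMap k hac l₀ hl₀)).presheaf.germ ⊤ a trivial t) =
      L.presheaf.germ ⊤ a trivial (j.app ⊤ t) :=
    TopCat.Presheaf.stalkFunctor_map_germ_apply ⊤ a trivial ((Scheme.Modules.toPresheaf X).map j) t
  refine ⟨j.app ⊤ t, e1 ▸ hmem _, fun h => ht ?_⟩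
  show resInv k hac (δ (𝔪.toCotangent (θ _))) = 0
  rw [LinearMap.mem_ker.1 (hW (Submodule.mem_map_of_mem (f := 𝔪.toCotangent) (p := Submodule.comap 𝔪.subtype N)
    (show coord he ha (F.map j _) ∈ N by rw [e1]; exact h))), map_zero]

end Sub

/-- The chart condition: all sections are coordinates of functions on the target. -/
theorem isClosedImmersion_of_sections (hdim : topologicalKrullDim X = 1) (hL : PicF.IsInvertible L)
    (hχ : (Curv2.genus k X : ℤ) + 2 ≤ Curv2.euler k X L)
    {Y : Scheme.{u}} (q : Y ⟶ Spec (CommRingCat.of k)) [LocallyOfFiniteType q] [QuasiCompact q]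
    [IsSeparated q] (g : X ⟶ Y) (hg : g ≫ q = X ↘ Spec (CommRingCat.of k))
    (hchart : ∀ y : Y, ∃ (V : Y.Opens) (_ : y ∈ V) (e : Γ(L, g ⁻¹ᵁ V)), IsFrame e ∧
      ∀ z : Γ(L, ⊤), ∃ r : Γ(Y, V), AModX.res L (le_top : g ⁻¹ᵁ V ≤ ⊤) z = g.app V r • e) :
    IsClosedImmersion g :=
  isClosedImmersion_of_separation k
    (fun he _ _ ha hb hac hbc hne => exists_separate k hdim hL hχ he ha hac hb hbc hne)
    (fun he _ ha hac N h1 h2 => exists_tangent k hdim hL hχ he ha hac N h1 h2) q g hg hchart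

end Groth.Agent.CurveVA
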