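import Groth.Agent.CurveVA.Vanish
import Groth.Agent.Lib.CurvePoint
import Groth.Agent.Lib.CurveSection

/-! Conditions at a closed point imposed on the sections of a submodule of an invertible module. -/

noncomputable section

set_option linter.style.haveILetI false
set_option linter.unusedSectionVars false
set_option backward.isDefEq.respectTransparency false
set_option backward.isDefEq.respectTransparency.types false

universe u

open CategoryTheory CategoryTheory.Limits AlgebraicGeometry TopologicalSpace Opposite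
open Groth.Agent.PnCoh.Finite (mapLin)

namespace Groth.Agent.CurveVA

open Groth.Agent Groth.Agent.CurveBundle Groth.Agent.CurveSlope Groth.Agent.CurvePoint Groth.Agent.H23

variable {X : Scheme.{u}} (k : Type u) [Field k] [X.Over (Spec (CommRingCat.of k))]

/-- A functional on the stalk through the residue field. -/
def IsResLinear {F : X.Modules} (x : X) (l : F.presheaf.stalk x →+ k) : Prop :=
  ∀ (a : X.presheaf.stalk x) (m : F.presheaf.stalk x) (c : k),
    X.residue x a = Curv2.resMap k X x c → l (a • m) = c * l m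

/-- The constant function on an open set. -/
def constFn (U : X.Opens) : k →+* Γ(X, U) :=
  (X.presheaf.map (homOfLE (le_top : U ≤ ⊤)).op).hom.comp (Coh.toGlobal (X ↘ Spec (CommRingCat.of k)))

theorem resR_constFn {U V : X.Opens} (h : V ≤ U) (c : k) :
    X.presheaf.map (homOfLE h).op (constFn k U c) = constFn k V c := by
  show (X.presheaf.map (homOfLE (le_top : U ≤ ⊤)).op ≫ X.presheaf.map (homOfLE h).op)
    (Coh.toGlobal (X ↘ Spec (CommRingCat.of k)) c) = _
  rw [← Functor.map_comp]
  rfl

theorem germ_constFn {U : X.Opens} {x : X} (hx : x ∈ U) (c : k) :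
    X.presheaf.germ U x hx (constFn k U c) = Curv2.stalkMap k X x c :=
  TopCat.Presheaf.germ_res_apply X.presheaf (homOfLE (le_top : U ≤ ⊤)) x hx _

variable [IsAlgClosed k] [IsProper (X ↘ Spec (CommRingCat.of k))]

/-- Functions agree on a reduced point when their values agree. -/
theorem app_ptIdeal_eq {x : X} (hx : IsClosed ({x} : Set X)) {U : X.Opens} (a b : Γ(X, U))
    (h : ∀ hU : x ∈ U, X.residue x (X.presheaf.germ U x hU a) = X.residue x (X.presheaf.germ U x hU b)) :
    (ptIdeal x hx).subschemeι.app U a = (ptIdeal x hx).subschemeι.app U b := by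
  rw [← sub_eq_zero, ← map_sub]
  have hr : IsReduced (ptIdeal x hx).subscheme := inferInstance
  rw [← basicOpen_eq_bot_iff, ← le_bot_iff]
  intro z hz
  rw [← Scheme.preimage_basicOpen] at hz
  have hzx : (ptIdeal x hx).subschemeι z = x := by
    have hmem : (ptIdeal x hx).subschemeι z ∈ Set.range (ptIdeal x hx).subschemeι := ⟨z, rfl⟩
    rw [(ptIdeal x hx).range_subschemeι] at hmem
    exact Set.mem_singleton_iff.1 hmem
  have hxb : x ∈ X.basicOpen (a - b) := hzx ▸ (show (ptIdeal x hx).subschemeι z ∈ X.basicOpen (a - b) from hz)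
  have hU : x ∈ U := X.basicOpen_le _ hxb
  rw [X.mem_basicOpen _ x hU, map_sub] at hxb
  refine absurd hxb ((IsLocalRing.mem_maximalIdeal _).1 ((IsLocalRing.residue_eq_zero_iff _).1 ?_))
  show X.residue x _ = 0
  rw [map_sub, h hU, sub_self]

/-- The reduced point has Euler characteristic one. -/
theorem euler_quot_pt {p : X} (hp : IsClosed ({p} : Set X)) :
    Curv2.euler k X (ClSub.quotMod (ptIdeal p hp)) = 1 := by
  classical
  haveI := CurveCohLib.isNoetherian_of_proper (k := k) (X := X)
  let Q := ClSub.quotMod (ptIdeal p hp)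
  obtain ⟨h, hfin⟩ := CurveCohLib.euler_eq_sum_stalks (k := k) (ParShLib.isCoh_quotMod (ptIdeal p hp))
    (fun _ hz => Set.mem_singleton_iff.1 (support_quot_subset p hp hz) ▸ hp) {p} (by simpa using support_quot_subset p hp)
  rw [h, Finset.sum_singleton]
  letI := CurveCohLib.stalkModuleK k Q p
  haveI := hfin p (Finset.mem_singleton_self p)
  haveI : Nontrivial (Q.presheaf.stalk p) := not_subsingleton_iff_nontrivial.1 (not_subsingleton_stalk p hp)
  obtain ⟨q₀, hq₀⟩ : ∃ q₀ : Q.presheaf.stalk p, ∀ q, ∃ a : X.presheaf.stalk p, q = a • q₀ :=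
    ParShLib.exists_germ_smul (ptIdeal p hp) p
  let L : k →ₗ[k] Q.presheaf.stalk p :=
    { toFun := fun c => Curv2.stalkMap k X p c • q₀
      map_add' := fun c d => by rw [map_add, add_smul]
      map_smul' := fun a c => by
        show Curv2.stalkMap k X p (a * c) • q₀ = Curv2.stalkMap k X p a • (Curv2.stalkMap k X p c • q₀)
        rw [map_mul, mul_smul] }
  have hL : Function.Surjective L := fun q => by
    obtain ⟨a, ha⟩ := hq₀ q
    obtain ⟨c, hc⟩ := CurveSection.exists_stalkMap_sub_mem k hp a
    refine ⟨c, ?_⟩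
    have h0 := smul_quot_eq_zero p hp hc q₀
    rw [sub_smul, sub_eq_zero] at h0
    exact h0.symm.trans (ha.symm : a • q₀ = q)
  have h1 := LinearMap.finrank_le_finrank_of_surjective hL
  have h2 : 0 < Module.finrank k (Q.presheaf.stalk p) := Module.finrank_pos
  rw [Module.finrank_self] at h1
  exact_mod_cast le_antisymm h1 h2

variable {F : X.Modules} {x : X} (hx : IsClosed ({x} : Set X)) (l : F.presheaf.stalk x →+ k)

open scoped Classical in
/-- The value of a functional on a section, zero if the point is outside. -/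
def valueAt (U : X.Opens) (s : Γ(F, U)) : k :=
  if h : x ∈ U then l (F.presheaf.germ U x h s) else 0

/-- The map to the point defined by a functional, on sections. -/
def skyApp (U : X.Opens) : Γ(F, U) →+ Γ((ptIdeal x hx).subscheme, (ptIdeal x hx).subschemeι ⁻¹ᵁ U) :=
  AddMonoidHom.mk' (fun s => (ptIdeal x hx).subschemeι.app U (constFn k U (valueAt k l U s))) fun a b => by
    rw [← map_add, ← map_add]
    refine app_ptIdeal_eq hx _ _ fun hU => ?_
    simp only [valueAt, dif_pos hU, map_add]

theorem skyApp_res {U V : X.Opens} (i : V ⟶ U) (s : Γ(F, U)) :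
    skyApp k hx l V (F.presheaf.map i.op s) =
      (ptIdeal x hx).subscheme.presheaf.map ((Opens.map (ptIdeal x hx).subschemeι.base).map i).op
        (skyApp k hx l U s) := by
  show (ptIdeal x hx).subschemeι.app V _ = _
  refine Eq.trans ?_ (congr($((ptIdeal x hx).subschemeι.naturality i.op) (constFn k U (valueAt k l U s))))
  rw [CommRingCat.comp_apply]
  refine app_ptIdeal_eq hx _ _ fun hV => ?_
  have hU : x ∈ U := i.le hV
  rw [TopCat.Presheaf.germ_res_apply X.presheaf i x hV, germ_constFn, germ_constFn]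
  simp only [valueAt, dif_pos hV, dif_pos hU]
  erw [TopCat.Presheaf.germ_res_apply F.presheaf i x hV]

theorem skyApp_smul (hl : IsResLinear k x l) (U : X.Opens) (r : Γ(X, U)) (s : Γ(F, U)) :
    skyApp k hx l U (r • s) = (ptIdeal x hx).subschemeι.app U r * skyApp k hx l U s := by
  show (ptIdeal x hx).subschemeι.app U _ = _ * (ptIdeal x hx).subschemeι.app U _
  rw [← map_mul]
  refine app_ptIdeal_eq hx _ _ fun hU => ?_
  obtain ⟨c, hc⟩ := CurveSection.surjective_resMap k hx (X.residue x (X.presheaf.germ U x hU r))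
  rw [map_mul (X.presheaf.germ U x hU).hom, germ_constFn, germ_constFn, map_mul (X.residue x).hom, ← hc]
  simp only [valueAt, dif_pos hU, QCoh.germ_smul']
  rw [hl _ _ c hc.symm]
  show Curv2.resMap k X x _ = Curv2.resMap k X x c * Curv2.resMap k X x _
  rw [map_mul]

/-- The map to the point defined by a functional. -/
def skyMap (hl : IsResLinear k x l) : F ⟶ ClSub.quotMod (ptIdeal x hx) :=
  ⟨PresheafOfModules.homMk
    { app := fun U => AddCommGrpCat.ofHom (skyApp k hx l U.unop)
      naturality := fun U V i => by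
        ext s
        exact skyApp_res k hx l i.unop s }
    (fun U r s => skyApp_smul k hx l hl U.unop r s)⟩

variable (hl : IsResLinear k x l)

theorem skyMap_app (U : X.Opens) (s : Γ(F, U)) :
    (skyMap k hx l hl).app U s = skyApp k hx l U s := rfl

/-- Sections killed by the map are those killed by the functional. -/
theorem skyMap_app_eq_zero {U : X.Opens} (s : Γ(F, U)) :
    (skyMap k hx l hl).app U s = 0 ↔ ∀ hU : x ∈ U, l (F.presheaf.germ U x hU s) = 0 := by
  rw [skyMap_app]
  refine ⟨fun h hU => ?_, fun h => ?_⟩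
  · by_contra hne
    have hu : IsUnit (skyApp k hx l U s) := by
      refine (IsUnit.map (constFn k U) ?_).map ((ptIdeal x hx).subschemeι.app U).hom
      simp only [valueAt, dif_pos hU]
      exact isUnit_iff_ne_zero.2 hne
    obtain ⟨z, hz⟩ : x ∈ Set.range (ptIdeal x hx).subschemeι := by
      rw [(ptIdeal x hx).range_subschemeι]
      exact Set.mem_singleton x
    haveI : Nonempty ↥((ptIdeal x hx).subschemeι ⁻¹ᵁ U) :=
      ⟨⟨z, show (ptIdeal x hx).subschemeι z ∈ U by rw [hz]; exact hU⟩⟩
    exact hu.ne_zero h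
  · show (ptIdeal x hx).subschemeι.app U _ = 0
    rw [← map_zero ((ptIdeal x hx).subschemeι.app U).hom]
    refine app_ptIdeal_eq hx _ _ fun hU => ?_
    simp only [valueAt, dif_pos hU, h hU, map_zero]

theorem epi_skyMap {m : F.presheaf.stalk x} (hm : l m ≠ 0) : Epi (skyMap k hx l hl) := by
  refine Preadditive.epi_of_isZero_cokernel _ (CurveCohLib.isZero_of_subsingleton_stalks fun y => ?_)
  haveI : Epi ((DerSch.stalkFunctor X y).map (skyMap k hx l hl)) := by
    refine (ModuleCat.epi_iff_surjective _).2 fun q => ?_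
    by_cases hy : y = x
    swap
    · haveI : Subsingleton ↑((DerSch.stalkFunctor X y).obj (ClSub.quotMod (ptIdeal x hx))) :=
        subsingleton_stalk_of_ne x hx hy
      exact ⟨0, Subsingleton.elim _ _⟩
    subst hy
    obtain ⟨V, hyV, q', rfl⟩ := TopCat.Presheaf.exists_germ_eq (ClSub.quotMod (ptIdeal y hx)).presheaf q
    obtain ⟨V', hyV', s₀, hs₀⟩ := TopCat.Presheaf.exists_germ_eq F.presheaf m
    obtain ⟨_, ⟨W, hW, rfl⟩, hyW, hWV⟩ :=
      X.isBasis_affineOpens.exists_subset_of_mem_open (show y ∈ V ⊓ V' from ⟨hyV, hyV'⟩) (V ⊓ V').2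
    have h1 : W ≤ V := fun z hz => (hWV hz).1
    have h2 : W ≤ V' := fun z hz => (hWV hz).2
    obtain ⟨r, hr⟩ := (ptIdeal y hx).subschemeι_app_surjective ⟨W, hW⟩
      (show Γ((ptIdeal y hx).subscheme, (ptIdeal y hx).subschemeι ⁻¹ᵁ W) from
        (ClSub.quotMod (ptIdeal y hx)).presheaf.map (homOfLE h1).op q')
    obtain ⟨c, hc⟩ := CurveSection.surjective_resMap k hx (X.residue y (X.presheaf.germ W y hyW r))
    let s : Γ(F, W) := constFn k W (c * (l m)⁻¹) • F.presheaf.map (homOfLE h2).op s₀
    refine ⟨F.presheaf.germ W y hyW s, ?_⟩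
    rw [← (ClSub.quotMod (ptIdeal y hx)).presheaf.germ_res_apply (homOfLE h1) y hyW q']
    refine (TopCat.Presheaf.stalkFunctor_map_germ_apply W y hyW
      ((Scheme.Modules.toPresheaf X).map (skyMap k hx l hl)) s).trans ?_
    refine congrArg ((ClSub.quotMod (ptIdeal y hx)).presheaf.germ W y hyW) (Eq.trans ?_ hr)
    show (ptIdeal y hx).subschemeι.app W _ = _
    refine app_ptIdeal_eq hx _ _ fun _ => ?_
    rw [germ_constFn, ← hc]
    have hv : valueAt k l W s = c := by
      unfold valueAt
      refine (dif_pos hyW).trans ?_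
      show l (F.presheaf.germ W y hyW s) = c
      rw [QCoh.germ_smul']
      rw [hl _ _ (c * (l m)⁻¹) (congrArg (X.residue y) (germ_constFn k hyW _)),
        TopCat.Presheaf.germ_res_apply F.presheaf (homOfLE h2) y hyW, hs₀, mul_assoc, inv_mul_cancel₀ hm, mul_one]
    rw [hv]
    rfl
  exact ModuleCat.subsingleton_of_isZero ((isZero_cokernel_of_epi
    ((DerSch.stalkFunctor X y).map (skyMap k hx l hl))).of_iso
      (PreservesCokernel.iso (DerSch.stalkFunctor X y) (skyMap k hx l hl)))

theorem shortExact_skyMap {m : F.presheaf.stalk x} (hm : l m ≠ 0) :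
    (ShortComplex.mk (kernel.ι (skyMap k hx l hl)) (skyMap k hx l hl) (kernel.condition _)).ShortExact := by
  haveI := epi_skyMap k hx l hl hm
  exact CurveSlope.shortExact_kernel_of_epi _

/-- Germs of sections killed by the functional come from the kernel. -/
theorem exists_kernel_germ {m : F.presheaf.stalk x} (hm : l m ≠ 0) {U : X.Opens} {y : X} (hy : y ∈ U)
    (s : Γ(F, U)) (h : ∀ hU : x ∈ U, l (F.presheaf.germ U x hU s) = 0) :
    ∃ m', (DerSch.stalkFunctor X y).map (kernel.ι (skyMap k hx l hl)) m' = F.presheaf.germ U y hy s := by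
  have h0 : (DerSch.stalkFunctor X y).map (skyMap k hx l hl) (F.presheaf.germ U y hy s) = 0 := by
    refine (TopCat.Presheaf.stalkFunctor_map_germ_apply U y hy
      ((Scheme.Modules.toPresheaf X).map (skyMap k hx l hl)) s).trans ?_
    exact (congrArg ((ClSub.quotMod (ptIdeal x hx)).presheaf.germ U y hy)
      ((skyMap_app_eq_zero k hx l hl s).2 h)).trans (map_zero _)
  exact (ShortComplex.moduleCat_exact_iff _).1
    ((shortExact_skyMap k hx l hl hm).map_of_exact (DerSch.stalkFunctor X y)).exact _ h0

variable [IsIntegral X]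

/-- The kernel of a condition at a point drops the Euler characteristic by one. -/
theorem euler_kernel_skyMap (hF : Coh.IsCoh F) {m : F.presheaf.stalk x} (hm : l m ≠ 0) :
    Coh.IsCoh (kernel (skyMap k hx l hl)) ∧
      Curv2.euler k X F = Curv2.euler k X (kernel (skyMap k hx l hl)) + 1 := by
  haveI := CurveCohLib.isNoetherian_of_proper (k := k) (X := X)
  have hQ := ParShLib.isCoh_quotMod (ptIdeal x hx)
  have hK := QCoh.isCoh_kernel hF hQ (skyMap k hx l hl)
  refine ⟨hK, ?_⟩
  have h := euler_add' k _ _ _ (shortExact_skyMap k hx l hl hm) hK hF hQ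
  rwa [euler_quot_pt k hx] at h

/-- A submodule of Euler characteristic above the genus has a section satisfying an open condition at
a point. -/
theorem exists_section (hdim : topologicalKrullDim X = 1) {L : X.Modules} (hL : PicF.IsInvertible L)
    (j : F ⟶ L) [Mono j] (hF : Coh.IsCoh F) (hχ : (Curv2.genus k X : ℤ) + 1 ≤ Curv2.euler k X F)
    {m : F.presheaf.stalk x} (hx : IsClosed ({x} : Set X)) (hm : l m ≠ 0) (hl : IsResLinear k x l) :
    ∃ t : Γ(F, ⊤), l (F.presheaf.germ ⊤ x trivial t) ≠ 0 := by
  haveI := CurveCohLib.isNoetherian_of_proper (k := k) (X := X)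
  obtain ⟨hK, he⟩ := euler_kernel_skyMap k hx l hl hF hm
  haveI := subsingleton_h1 k hdim hL (kernel.ι (skyMap k hx l hl) ≫ j) hK (by omega)
  have hS := shortExact_skyMap k hx l hl hm
  have hsurj : Function.Surjective (mapLin k (skyMap k hx l hl) 0) := fun y =>
    (CurveCohLib.ker_deltaLin k hS 0).le (LinearMap.mem_ker.2 (Subsingleton.elim _ 0) : y ∈ _)
  have hQ := ParShLib.isCoh_quotMod (ptIdeal x hx)
  have h1 := CurveCohLib.euler_eq_finrank_zero (k := k) hQ
    (fun _ hz => Set.mem_singleton_iff.1 (support_quot_subset x hx hz) ▸ hx)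
  rw [euler_quot_pt k hx] at h1
  haveI := CurveCohLib.finite_HH (k := k) hQ 0
  obtain ⟨y, hy⟩ := Module.finrank_pos_iff_exists_ne_zero.1
    (show 0 < Module.finrank k (Coh.HH X (ClSub.quotMod (ptIdeal x hx)) 0) by omega)
  obtain ⟨z, hz⟩ := hsurj y
  refine ⟨Sheaf.H.equiv₀ (Coh.toAb F) isTerminalTop z, fun h => hy ?_⟩
  apply (Sheaf.H.equiv₀ (Coh.toAb (ClSub.quotMod (ptIdeal x hx))) isTerminalTop).injective
  refine Eq.trans ?_ (map_zero _).symm
  rw [← hz]
  refine Eq.trans ?_ ((skyMap_app_eq_zero k hx l hl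
    (show Γ(F, ⊤) from Sheaf.H.equiv₀ (Coh.toAb F) isTerminalTop z)).2 fun _ => h)
  exact (Sheaf.H.equiv₀_naturality isTerminalTop ((QCoh.toAbFunctor X).map (skyMap k hx l hl)) z).symm

end Groth.Agent.CurveVA
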