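import Groth.Agent.CurveVA.Canonical
import Groth.Agent.CurveVA.Main
import Groth.Agent.QCoh.FlatBC
import Groth.Agent.CurveBC.Main

/-! Very ampleness of the differentials and extension of the base field. -/

noncomputable section

set_option linter.style.haveILetI false
set_option linter.unusedSectionVars false
set_option backward.isDefEq.respectTransparency false
set_option backward.isDefEq.respectTransparency.types false

universe u

open CategoryTheory CategoryTheory.Limits AlgebraicGeometry TopologicalSpace Opposite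

namespace Groth.Agent.CurveVA

open Groth.Agent Groth.Agent.InvX Groth.Agent.H23

/-- The two maps of a pushout of rings generate the target. -/
theorem subring_eq_top_of_isPushout {A B C R : CommRingCat.{u}} {f : A ⟶ B} {g : A ⟶ C} {i : B ⟶ R} {j : C ⟶ R}
    (h : IsPushout f g i j) (S : Subring R) (hi : ∀ x, i x ∈ S) (hj : ∀ x, j x ∈ S) : S = ⊤ := by
  let i' : B ⟶ CommRingCat.of S := CommRingCat.ofHom (i.hom.codRestrict S hi)
  let j' : C ⟶ CommRingCat.of S := CommRingCat.ofHom (j.hom.codRestrict S hj)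
  have hw : f ≫ i' = g ≫ j' := CommRingCat.hom_ext (RingHom.ext fun a => Subtype.ext congr($(h.w) a))
  have h1 : h.desc i' j' hw ≫ CommRingCat.ofHom S.subtype = 𝟙 R := by
    refine h.hom_ext ?_ ?_
    · rw [IsPushout.inl_desc_assoc, Category.comp_id]
      rfl
    · rw [IsPushout.inr_desc_assoc, Category.comp_id]
      rfl
  refine top_le_iff.1 fun x _ => ?_
  have h3 : ((h.desc i' j' hw x : S) : R) = x := congr($h1 x)
  exact h3 ▸ (h.desc i' j' hw x).2

variable {k : Type u} [Field k] {X : Scheme.{u}} [X.Over (Spec (CommRingCat.of k))]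
  {K : Type u} [Field K] [Algebra k K] {X' : Scheme.{u}} [X'.Over (Spec (CommRingCat.of K))]
  (π : X' ⟶ X)
  (hpb : IsPullback π (X' ↘ Spec (CommRingCat.of K)) (X ↘ Spec (CommRingCat.of k))
      (Spec.map (CommRingCat.ofHom (algebraMap k K))))

include hpb

theorem app_sc (U : X.Opens) (c : k) :
    π.app U (AModX.resR (le_top : U ≤ ⊤) (sc (X := X) k c)) =
      AModX.resR (le_top : π ⁻¹ᵁ U ≤ ⊤) (sc (X := X') K (algebraMap k K c)) := by
  have hid : ∀ (Y : Scheme.{u}) (z : Γ(Y, ⊤)), Coh.resTop Y (op ⊤) z = z := fun Y z =>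
    ConcreteCategory.congr_hom (Y.presheaf.map_id (op ⊤)) z
  show π.app U (X.presheaf.map _ (Coh.resTop X (op ⊤) _)) = X'.presheaf.map _ (Coh.resTop X' (op ⊤) _)
  rw [hid, hid, QCoh.app_topRes, QCoh.toGlobal_comm _ _ π hpb.w]

/-- Functions on an affine open after extension of the field are generated by functions and scalars. -/
theorem subring_preimage_eq_top {U : X.Opens} (hU : IsAffineOpen U) (S : Subring Γ(X', π ⁻¹ᵁ U))
    (hf : ∀ f, π.app U f ∈ S) (hc : ∀ c, AModX.resR (le_top : π ⁻¹ᵁ U ≤ ⊤) (sc (X := X') K c) ∈ S) : S = ⊤ := by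
  haveI : IsAffineHom π := MorphismProperty.of_isPullback hpb.flip inferInstance
  haveI : IsAffine (U : Scheme.{u}) := hU
  have h1 := (isPullback_morphismRestrict π U).paste_vert hpb
  have h2 := subring_eq_top_of_isPushout (isPushout_appTop_of_isPullback h1) (S.comap (π ⁻¹ᵁ U).topIso.hom.hom)
    (fun x => ?_) (fun x => ?_)
  · refine top_le_iff.1 fun x hx => ?_
    clear hx
    obtain ⟨y, rfl⟩ := (ConcreteCategory.bijective_of_isIso (π ⁻¹ᵁ U).topIso.hom).2 x
    exact (h2 ▸ Subring.mem_top y : y ∈ S.comap (π ⁻¹ᵁ U).topIso.hom.hom)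
  · show (π ⁻¹ᵁ U).topIso.hom _ ∈ S
    refine Set.mem_of_eq_of_mem ?_ (hf (U.topIso.hom x))
    show ((π ∣_ U).appTop ≫ (π ⁻¹ᵁ U).topIso.hom) x = (U.topIso.hom ≫ π.app U) x
    refine ConcreteCategory.congr_hom ?_ x
    rw [show (π ∣_ U).appTop = _ from morphismRestrict_appTop π U, Category.assoc]
    simp only [Scheme.Opens.topIso]
    simp
    exact congrArg (π.app (U.ι ''ᵁ ⊤) ≫ ·) (congrArg X'.presheaf.map (Subsingleton.elim _ _))
  · show (π ⁻¹ᵁ U).topIso.hom _ ∈ S
    refine Set.mem_of_eq_of_mem ?_ (hc ((Scheme.ΓSpecIso (CommRingCat.of K)).hom x))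
    show (((π ⁻¹ᵁ U).ι ≫ (X' ↘ Spec (CommRingCat.of K))).appTop ≫ (π ⁻¹ᵁ U).topIso.hom) x = X'.presheaf.map _
      (X'.presheaf.map (𝟙 (op ⊤)) ((X' ↘ Spec (CommRingCat.of K)).appTop
        ((Scheme.ΓSpecIso (CommRingCat.of K)).inv ((Scheme.ΓSpecIso (CommRingCat.of K)).hom x))))
    rw [Iso.hom_inv_id_apply, CategoryTheory.Functor.map_id]
    have h3 : (π ⁻¹ᵁ U).ι.appTop ≫ (π ⁻¹ᵁ U).topIso.hom = X'.presheaf.map (homOfLE (le_top : π ⁻¹ᵁ U ≤ ⊤)).op := by
      simp [Scheme.Opens.topIso]
      erw [← Functor.map_comp]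
      rfl
    rw [Scheme.Hom.comp_appTop, Category.assoc, h3]
    rfl

/-- Generating sections stay generating. -/
theorem Gen.pullback {ι : Type*} {L : X.Modules} (hL : PicF.IsInvertible L) {s : ι → Γ(L, ⊤)}
    {U : ι → X.Opens} {γ : ∀ j, ι → Γ(X, U j)} (G : Gen k L s U γ) :
    Gen K ((Scheme.Modules.pullback π).obj L) (fun i => pullTop π L (s i)) (fun j => π ⁻¹ᵁ U j)
      (fun j l => π.app (U j) (γ j l)) where
  cover x := G.cover (π x)
  affine j := by
    haveI : IsAffineHom π := MorphismProperty.of_isPullback hpb.flip inferInstance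
    exact (G.affine j).preimage π
  locus_eq j := by
    rw [G.locus_eq j]
    exact (TrivBasic.locus_pullElt hL π (s j)).symm
  res_eq j l := by
    have h1 : ∀ w, AModX.res ((Scheme.Modules.pullback π).obj L) (le_top : π ⁻¹ᵁ U j ≤ ⊤) (pullTop π L w) =
        InvX.pullElt π (AModX.res L (le_top : U j ≤ ⊤) w) := fun w => by
      rw [← InvX.res_pullElt π (le_top : U j ≤ ⊤) w]
      rfl
    rw [h1, h1, G.res_eq, InvX.pullElt_smul]
  gen j S hc hγ := by
    refine subring_preimage_eq_top π hpb (G.affine j) S (fun f => ?_) hc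
    have h := G.gen j (S.comap (π.app (U j)).hom) (fun c => ?_) hγ
    · exact (h ▸ Subring.mem_top f : f ∈ S.comap (π.app (U j)).hom)
    · show π.app (U j) _ ∈ S
      rw [app_sc π hpb]
      exact hc _

end Groth.Agent.CurveVA

namespace Groth.Agent.CurveVA

open Groth.Agent

/-- The numerical condition passes along isomorphisms. -/
theorem twist₂_congr (k : Type u) [Field k] {X : Scheme.{u}} [X.Over (Spec (CommRingCat.of k))]
    [IsNoetherian X] {L M : X.Modules} (φ : L ≅ M) {E : X.Modules}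
    (h : Module.finrank k (Coh.HH X (CohB1.tensorMod L E) 0) + 2 = Module.finrank k (Coh.HH X L 0)) :
    Module.finrank k (Coh.HH X (CohB1.tensorMod M E) 0) + 2 = Module.finrank k (Coh.HH X M 0) := by
  have h1 : Module.finrank k (Coh.HH X (CohB1.tensorMod L E) 0) =
      Module.finrank k (Coh.HH X (CohB1.tensorMod M E) 0) :=
    (CurveCohLib.hhEquiv (k := k) ((AmpleVan.tw E).mapIso φ) 0).finrank_eq
  rwa [← h1, ← (CurveCohLib.hhEquiv (k := k) φ 0).finrank_eq]

end Groth.Agent.CurveVA
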