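import Groth.Agent.CurveVA.Converse
import Groth.Agent.CurveFF.Facts
import Groth.Agent.CurveCohLib.Pencil

/-! The canonical module is very ample outside the hyperelliptic case. -/

noncomputable section

set_option linter.style.haveILetI false
set_option linter.unusedSectionVars false
set_option backward.isDefEq.respectTransparency false
set_option backward.isDefEq.respectTransparency.types false

universe u

open CategoryTheory CategoryTheory.Limits AlgebraicGeometry TopologicalSpace Opposite

namespace Groth.Agent.CurveVA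

open Groth.Agent Groth.Agent.InvX Groth.Agent.H23 Groth.Agent.CurvePoint

/-- Two independent sections when `h⁰ ≥ 2`. -/
theorem exists_linIndep {n : ℕ} (k : Type u) [Field k] {X : Scheme.{u}} [X.Over (Spec (CommRingCat.of k))]
    [IsProper (X ↘ Spec (CommRingCat.of k))] {L : X.Modules} (hL : Coh.IsCoh L)
    (h : n ≤ Module.finrank k (Coh.HH X L 0)) :
    ∃ s : Fin n → LinSer.Sect X L, LinSer.LinIndep k X L s := by
  haveI := CurveCohLib.finite_HH (k := k) hL 0
  let b := Module.finBasis k (Coh.HH X L 0)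
  let e := Sheaf.H.equiv₀ (Coh.toAb L) isTerminalTop
  refine ⟨fun i => e (b (Fin.castLE h i)), fun c hc => funext fun i => ?_⟩
  refine Fintype.linearIndependent_iff.1 (b.linearIndependent.comp _ (Fin.castLE_injective h)) c ?_ i
  apply e.injective
  rw [map_sum, map_zero]
  refine Eq.trans (Finset.sum_congr rfl fun j _ => ?_) hc
  refine (CurveCohLib.h0Equiv_smul L (c j) (b (Fin.castLE h j))).trans ?_
  exact congrArg (fun r : Γ(X, ⊤) => r • (show Γ(L, ⊤) from e (b (Fin.castLE h j))))
    (show Coh.resTop X (op ⊤) _ = _ from ConcreteCategory.congr_hom (X.presheaf.map_id (op ⊤)) _)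

variable (k : Type u) [Field k] [IsAlgClosed k] {X : Scheme.{u}} [X.Over (Spec (CommRingCat.of k))]
  [IsIntegral X] [IsProper (X ↘ Spec (CommRingCat.of k))] [Smooth (X ↘ Spec (CommRingCat.of k))]

/-- An effective module of degree one has a base point. -/
theorem exists_base_point (hdim : topologicalKrullDim X = 1) {T : X.Modules} (hT : PicF.IsInvertible T)
    (hd : Curv2.deg k X T 1 = 1) (h : Module.finrank k (Coh.HH X T 0) ≠ 0) :
    ∃ (q : X) (hq : IsClosed ({q} : Set X)),
      Module.finrank k (Coh.HH X (CohB1.tensorMod (ptMod q hq) T) 0) ≠ 0 := by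
  haveI := CurveCohLib.isNoetherian_of_proper (k := k) (X := X)
  haveI : JacobsonSpace X := LocallyOfFiniteType.jacobsonSpace (X ↘ Spec (CommRingCat.of k))
  let e₀ := Sheaf.H.equiv₀ (Coh.toAb T) isTerminalTop
  obtain ⟨t, ht⟩ : ∃ t : Coh.HH X T 0, t ≠ 0 := by
    by_contra! hc
    haveI : Subsingleton (Coh.HH X T 0) := subsingleton_of_forall_eq 0 hc
    exact h Module.finrank_zero_of_subsingleton
  let z : Γ(T, ⊤) := e₀ t
  have hz : z ≠ 0 := fun h0 => ht (e₀.injective ((show e₀ t = 0 from h0).trans (map_zero e₀).symm))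
  by_contra! hall
  have hloc : TrivBasic.locus z = ⊤ := by
    by_contra hne
    obtain ⟨q, hqz, hqc⟩ := nonempty_inter_closedPoints (Z := ((TrivBasic.locus z : X.Opens) : Set X)ᶜ)
      (Set.nonempty_compl.2 fun h' => hne (Opens.coe_eq_univ.1 h'))
      (TrivBasic.locus z : X.Opens).2.isClosed_compl.isLocallyClosed
    obtain ⟨U, hqU, e, he⟩ := exists_frame hT q
    obtain ⟨ψ, hψ, hJ⟩ := exists_twist k hdim hT hqc
    obtain ⟨s, hs⟩ := hJ.exists_preimage hT z fun x V f hf hxV => by
      by_cases hxq : x = q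
      · subst hxq
        rw [ptJ_self]
        by_contra hn
        exact hqz (mem_locus_of_coord hf hxV hn)
      · rw [ptJ_ne hxq]; trivial
    have hI := InvX.isInvertible_tensorMod (isInvertible_ptMod q hqc k hdim) hT
    haveI := CurveCohLib.finite_HH (k := k) (CurveDeg.isCoh_of_isInvertible hI) 0
    haveI : Subsingleton (Coh.HH X (CohB1.tensorMod (ptMod q hqc) T) 0) :=
      Module.finrank_zero_iff.1 (hall q hqc)
    refine hz ?_
    have hs0 : s = 0 := by
      let e1 := Sheaf.H.equiv₀ (Coh.toAb (CohB1.tensorMod (ptMod q hqc) T)) isTerminalTop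
      exact (e1.apply_symm_apply s).symm.trans ((congrArg e1 (Subsingleton.elim _ 0)).trans (map_zero e1))
    rw [← hs, hs0]
    exact map_zero _
  obtain ⟨φ⟩ := TrivBasic.triv_of_frame (TrivBasic.locus_eq_top_iff.1 hloc)
  rw [CurveRR.deg_congr k φ 1, CurveDeg.deg_structureModule] at hd
  omega

/-- `Ω` is very ample exactly when no module of degree two has two sections. -/
theorem canonical_iff (hdim : topologicalKrullDim X = 1) (hg : 2 ≤ Curv2.genus k X) :
    (∀ (a b : X) (hac : IsClosed ({a} : Set X)) (hbc : IsClosed ({b} : Set X)),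
      Module.finrank k (Coh.HH X (CohB1.tensorMod (CurveFF.Ωm k X) (CohB1.tensorMod (ptMod a hac) (ptMod b hbc))) 0) + 2 =
        Module.finrank k (Coh.HH X (CurveFF.Ωm k X) 0)) ↔
      ¬ ∃ M : X.Modules, PicF.IsInvertible M ∧ Curv2.deg k X M 1 = 2 ∧ 2 ≤ Module.finrank k (Coh.HH X M 0) := by
  haveI := CurveCohLib.isNoetherian_of_proper (k := k) (X := X)
  have hΩ := CurveFF.isInvertible_Ωm k X hdim
  have hh0 := (CurveFF.canonical_invariants k X hdim).1
  constructor
  · rintro hC ⟨M, hM, hdM, hsM⟩
    obtain ⟨p, -, hpc⟩ : (Set.univ ∩ closedPoints X).Nonempty := by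
      haveI : JacobsonSpace X := LocallyOfFiniteType.jacobsonSpace (X ↘ Spec (CommRingCat.of k))
      exact nonempty_inter_closedPoints ⟨Classical.arbitrary X, trivial⟩ isClosed_univ.isLocallyClosed
    have hT := InvX.isInvertible_tensorMod (isInvertible_ptMod p hpc k hdim) hM
    have hdT := CurveRR.deg_tensor k hdim (isInvertible_ptMod p hpc k hdim) hM
    rw [deg_ptMod p hpc k, hdM] at hdT
    have g1 := h0_twist_ge k hM hpc
    obtain ⟨q, hqc, hq⟩ := exists_base_point k hdim hT hdT (by omega)
    have hU := InvX.isInvertible_tensorMod (isInvertible_ptMod q hqc k hdim) hT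
    have hdU : Curv2.deg k X (CohB1.tensorMod (ptMod q hqc) (CohB1.tensorMod (ptMod p hpc) M)) 1 =
        Curv2.deg k X (Coh.structureModule X) 1 := by
      have h := CurveRR.deg_tensor k hdim (isInvertible_ptMod q hqc k hdim) hT
      rw [deg_ptMod q hqc k] at h
      rw [CurveDeg.deg_structureModule]
      refine h.trans ?_
      rw [show Curv2.deg k X (CohB1.tensorMod (ptMod p hpc) M) 1 = 1 from hdT]
      norm_num
    obtain ⟨s, hs⟩ := CurveRR.exists_hom_ne_zero k (P := CohB1.tensorMod (ptMod q hqc) (CohB1.tensorMod (ptMod p hpc) M)) hq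
    haveI := (CurveDeg.deg_le_and_isIso k hdim.le CurveDeg.isInvertible_structureModule hU s hs).2 hdU.symm
    obtain ⟨-, -, -, -, -, -, ⟨φ⟩⟩ := exists_twist₂ k hdim hM hpc hqc
    have e : (DCoh.tensorBi.obj M).obj (CohB1.tensorMod (ptMod p hpc) (ptMod q hqc)) ≅ Coh.structureModule X :=
      φ.symm ≪≫ (asIso s).symm
    have h1 := CurveFF.finrank_h1_eq k hdim hM e
    have h2 := CurveCohLib.Clifford.deg_eq k hdim hM
    have h3 := hC p q hpc hqc
    change Module.finrank k (Coh.HH X M 1) = Module.finrank k (Coh.HH X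
      (CohB1.tensorMod (CurveFF.Ωm k X) (CohB1.tensorMod (ptMod p hpc) (ptMod q hqc))) 0) at h1
    omega
  · intro hno a b hac hbc
    obtain ⟨-, -, -, -, -, -, ⟨φ⟩⟩ := exists_twist₂ k hdim hΩ hac hbc
    rw [← (CurveCohLib.hhEquiv (k := k) φ 0).finrank_eq]
    have g1 := h0_twist_ge k hΩ hac
    have g2 := h0_twist_ge k (InvX.isInvertible_tensorMod (isInvertible_ptMod a hac k hdim) hΩ) hbc
    have e2 := (CurveCohLib.hhEquiv (k := k) φ 0).finrank_eq
    have hP := InvX.isInvertible_tensorMod (isInvertible_ptMod a hac k hdim) (isInvertible_ptMod b hbc k hdim)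
    have hdP := CurveRR.deg_tensor k hdim (isInvertible_ptMod a hac k hdim) (isInvertible_ptMod b hbc k hdim)
    rw [deg_ptMod a hac k, deg_ptMod b hbc k] at hdP
    obtain ⟨M, hM, hdM, ⟨e⟩⟩ := CurveDuality.exists_inverse_deg k hdim hP
    rw [show Curv2.deg k X (CohB1.tensorMod (ptMod a hac) (ptMod b hbc)) 1 = _ from hdP] at hdM
    have h1 := CurveFF.finrank_h1_eq k hdim hM (CurveTensor.commIso M _ ≪≫ e)
    change Module.finrank k (Coh.HH X M 1) = Module.finrank k (Coh.HH X
      (CohB1.tensorMod (CurveFF.Ωm k X) (CohB1.tensorMod (ptMod a hac) (ptMod b hbc))) 0) at h1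
    have h2 := CurveCohLib.Clifford.deg_eq k hdim hM
    have h3 : Module.finrank k (Coh.HH X M 0) ≤ 1 := by
      by_contra h4
      exact hno ⟨M, hM, by rw [hdM]; norm_num, by omega⟩
    omega

end Groth.Agent.CurveVA
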