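import Groth.Agent.CurveVA.Criterion
import Groth.Agent.AmpleVan.Mul
import Groth.Agent.Lib.CurvePoint
import Groth.Agent.CurveCohLib.PointTwist
import Groth.Agent.InvX.GenLocusPull

/-! Twists by points, as submodules cut out by ideals in the stalks. -/

noncomputable section

set_option linter.style.haveILetI false
set_option linter.unusedSectionVars false
set_option backward.isDefEq.respectTransparency false
set_option backward.isDefEq.respectTransparency.types false

universe u

open CategoryTheory CategoryTheory.Limits AlgebraicGeometry TopologicalSpace Opposite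
open Groth.Agent.PnCoh.Finite (mapLin)

namespace Groth.Agent.CurveVA

open Groth.Agent Groth.Agent.InvX Groth.Agent.H23 Groth.Agent.CurvePoint

variable {X : Scheme.{u}} {L M N : X.Modules}

/-- A map which in suitable frames is multiplication by a generator of a given ideal at each point. -/
def HasIdeal (ψ : M ⟶ L) (J : ∀ x : X, Ideal (X.presheaf.stalk x)) : Prop :=
  ∀ (x : X) (U : X.Opens) (e : Γ(L, U)), IsFrame e → x ∈ U →
    ∃ (V : X.Opens) (hV : V ≤ U) (hx : x ∈ V) (e' : Γ(M, V)) (u : Γ(X, V)), IsFrame e' ∧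
      ψ.app V e' = u • AModX.res L hV e ∧ Ideal.span {X.presheaf.germ V x hx u} = J x

theorem HasIdeal.comp {ψ : M ⟶ L} {φ : N ⟶ M} {J J' : ∀ x : X, Ideal (X.presheaf.stalk x)}
    (h : HasIdeal ψ J) (h' : HasIdeal φ J') : HasIdeal (φ ≫ ψ) fun x => J' x * J x := fun x U e he hxU => by
  obtain ⟨V, hV, hxV, e', u, he', hu, hJ⟩ := h x U e he hxU
  obtain ⟨V', hV', hxV', e'', u', he'', hu', hJ'⟩ := h' x V e' he' hxV
  refine ⟨V', hV'.trans hV, hxV', e'', u' * AModX.resR hV' u, he'', ?_, ?_⟩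
  · show ψ.app V' (φ.app V' e'') = _
    rw [hu', Scheme.Modules.Hom.app_smul, AModX.app_res ψ hV', hu, AModX.res_smul, AModX.res_res, mul_smul]
  · rw [map_mul, InvX.germ_resR' hV' hxV' u, ← Ideal.span_singleton_mul_span_singleton, hJ, hJ']

/-- Coordinates of images lie in the ideal. -/
theorem HasIdeal.coord_mem {ψ : M ⟶ L} {J : ∀ x : X, Ideal (X.presheaf.stalk x)} (h : HasIdeal ψ J)
    {U : X.Opens} {e : Γ(L, U)} (he : IsFrame e) {x : X} (hxU : x ∈ U) (t : Γ(M, ⊤)) :
    coord he hxU (L.presheaf.germ ⊤ x trivial (ψ.app ⊤ t)) ∈ J x := by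
  obtain ⟨V, hV, hxV, e', u, he', hu, hJ⟩ := h x U e he hxU
  obtain ⟨r, hr⟩ := he'.exists_coord le_rfl (AModX.res M (le_top : V ≤ ⊤) t)
  rw [AModX.res_self] at hr
  have h1 : AModX.res L (le_top : V ≤ ⊤) (ψ.app ⊤ t) = (r * u) • AModX.res L hV e := by
    rw [← AModX.app_res, hr, Scheme.Modules.Hom.app_smul, hu, mul_smul]
  have h2 : L.presheaf.germ ⊤ x trivial (ψ.app ⊤ t) =
      L.presheaf.germ V x hxV ((r * u) • AModX.res L hV e) := by
    rw [← h1]; exact (InvX.germ_res' le_top hxV _).symm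
  rw [h2, coord_germ he hV hxV, map_mul, ← hJ]
  exact Ideal.mem_span_singleton'.2 ⟨_, rfl⟩

/-- Sections with coordinates in the ideals come from the source. -/
theorem HasIdeal.exists_preimage {ψ : M ⟶ L} [Mono ψ] {J : ∀ x : X, Ideal (X.presheaf.stalk x)}
    (h : HasIdeal ψ J) (hL : PicF.IsInvertible L) (z : Γ(L, ⊤))
    (hz : ∀ (x : X) (U : X.Opens) (e : Γ(L, U)) (he : IsFrame e) (hxU : x ∈ U),
      coord he hxU (L.presheaf.germ ⊤ x trivial z) ∈ J x) : ∃ t : Γ(M, ⊤), ψ.app ⊤ t = z := by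
  refine CurveEmbed.exists_preimage ψ z fun x => ?_
  obtain ⟨U, hxU, e, he⟩ := exists_frame hL x
  obtain ⟨V, hV, hxV, e', u, he', hu, hJ⟩ := h x U e he hxU
  have hm := hz x U e he hxU
  rw [← hJ] at hm
  obtain ⟨c, hc⟩ := Ideal.mem_span_singleton'.1 hm
  obtain ⟨W, hxW, c', rfl⟩ := TopCat.Presheaf.exists_germ_eq X.presheaf c
  let W₁ : X.Opens := W ⊓ V
  have hxW₁ : x ∈ W₁ := ⟨hxW, hxV⟩
  let w : Γ(M, W₁) := AModX.resR (inf_le_left : W₁ ≤ W) c' • AModX.res M (inf_le_right : W₁ ≤ V) e'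
  have hw : L.presheaf.germ W₁ x hxW₁ (ψ.app W₁ w) = L.presheaf.germ ⊤ x trivial z := by
    apply (AddEquiv.ofBijective (AddMonoidHom.mk' (fun c : X.presheaf.stalk x => c • L.presheaf.germ U x hxU e)
      fun a b => add_smul a b _) (he.germ_bijective hxU)).symm.injective
    show coord he hxU _ = coord he hxU _
    rw [Scheme.Modules.Hom.app_smul, AModX.app_res ψ, hu, AModX.res_smul, AModX.res_res, ← mul_smul,
      coord_germ he (inf_le_right.trans hV : W₁ ≤ U) hxW₁, map_mul, InvX.germ_resR' inf_le_left hxW₁,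
      InvX.germ_resR' inf_le_right hxW₁]
    exact hc
  obtain ⟨W₂, hxW₂, i, j, hW⟩ := L.presheaf.germ_eq (U := W₁) (V := ⊤) x hxW₁ trivial _ _ hw
  exact ⟨W₂, hxW₂, AModX.res M i.le w, (AModX.app_res _ _ _).trans hW⟩

section Point

variable (k : Type u) [Field k] [IsAlgClosed k] [X.Over (Spec (CommRingCat.of k))]
  [IsIntegral X] [IsProper (X ↘ Spec (CommRingCat.of k))] [Smooth (X ↘ Spec (CommRingCat.of k))]

open scoped Classical in
/-- The ideal of a closed point, at every point. -/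
def ptJ (a : X) (x : X) : Ideal (X.presheaf.stalk x) :=
  if x = a then IsLocalRing.maximalIdeal (X.presheaf.stalk x) else ⊤

theorem ptJ_self (a : X) : ptJ a a = IsLocalRing.maximalIdeal (X.presheaf.stalk a) := by simp [ptJ]

theorem ptJ_ne {a x : X} (h : x ≠ a) : ptJ a x = ⊤ := by simp [ptJ, h]

include k in
/-- The ideal of a point in a frame. -/
theorem ptIdeal_frame (hdim : topologicalKrullDim X = 1) {a : X} (hac : IsClosed ({a} : Set X)) (x : X) :
    ∃ (V : X.Opens) (hx : x ∈ V) (ε : Γ(ptMod a hac, V)), IsFrame ε ∧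
      Ideal.span {X.presheaf.germ V x hx (show Γ(X, V) from (ClSub.idealModι (ptIdeal a hac)).app V ε)} = ptJ a x := by
  haveI := CurveCohLib.isNoetherian_of_proper (k := k) (X := X)
  obtain ⟨V, hxV, ε, hε⟩ := exists_frame (isInvertible_ptMod a hac k hdim) x
  refine ⟨V, hxV, ε, hε, ?_⟩
  let F := DerSch.stalkFunctor X x
  let ι := ClSub.idealModι (ptIdeal a hac)
  let q := ClSub.toSubscheme (ptIdeal a hac)
  have hS := shortExact_pt a hac
  haveI : Epi q := hS.epi_g
  let u : Γ(X, V) := (show Γ(X, V) from ι.app V ε)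
  let one : F.obj (Coh.structureModule X) :=
    (Coh.structureModule X).presheaf.germ ⊤ x trivial (show Γ(Coh.structureModule X, ⊤) from (1 : Γ(X, ⊤)))
  have hone : ∀ y : F.obj (Coh.structureModule X), ∃ c : X.presheaf.stalk x, y = c • one := fun y => by
    obtain ⟨c, hc⟩ := ((InvX.isFrame_one (X := X) ⊤).germ_bijective (x := x) trivial).2 y
    exact ⟨c, hc.symm⟩
  have himg : ∀ c : X.presheaf.stalk x, c ∈ Ideal.span {X.presheaf.germ V x hxV u} ↔ F.map q (c • one) = 0 := by
    intro c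
    have hu1 : F.map ι ((ptMod a hac).presheaf.germ V x hxV ε) = X.presheaf.germ V x hxV u • one := by
      refine (TopCat.Presheaf.stalkFunctor_map_germ_apply V x hxV ((Scheme.Modules.toPresheaf X).map ι) ε).trans ?_
      have h2 : (ι.app V ε) = u • AModX.res (Coh.structureModule X) (le_top : V ≤ ⊤)
          (show Γ(Coh.structureModule X, ⊤) from (1 : Γ(X, ⊤))) := by
        show u = u * X.presheaf.map (homOfLE (le_top : V ≤ ⊤)).op (1 : Γ(X, ⊤))
        rw [map_one, mul_one]
      refine (congrArg ((Coh.structureModule X).presheaf.germ V x hxV) h2).trans ?_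
      rw [QCoh.germ_smul', InvX.germ_res']
    refine ⟨fun h => ?_, fun h => ?_⟩
    · obtain ⟨d, rfl⟩ := Ideal.mem_span_singleton'.1 h
      rw [show (d * X.presheaf.germ V x hxV u) • one = d • F.map ι ((ptMod a hac).presheaf.germ V x hxV ε) by
        rw [hu1]; exact mul_smul d _ one]
      rw [map_smul (F.map q).hom, ← ConcreteCategory.comp_apply, ← F.map_comp]
      rw [show ι ≫ q = 0 from kernel.condition _, F.map_zero]
      exact smul_zero _
    · obtain ⟨m, hm⟩ := (ShortComplex.moduleCat_exact_iff _).1 (hS.map_of_exact F).exact _ h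
      obtain ⟨d, hd⟩ := (hε.germ_bijective hxV).2 m
      refine Ideal.mem_span_singleton'.2 ⟨d, ((InvX.isFrame_one (X := X) ⊤).germ_bijective (x := x) trivial).1 ?_⟩
      show (d * X.presheaf.germ V x hxV u) • one = c • one
      refine (mul_smul d _ one).trans ?_
      rw [← hu1, ← map_smul (F.map ι).hom]
      exact (congrArg (F.map ι) hd).trans hm
  by_cases hxa : x = a
  · subst hxa
    rw [ptJ_self]
    refine le_antisymm (IsLocalRing.le_maximalIdeal fun htop => not_subsingleton_stalk x hac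
      (subsingleton_of_forall_eq 0 fun z => ?_)) fun c hc => (himg c).2 ?_
    · obtain ⟨y, rfl⟩ := (ModuleCat.epi_iff_surjective (F.map q)).1 inferInstance z
      obtain ⟨c, rfl⟩ := hone y
      exact (himg c).1 (htop ▸ Submodule.mem_top)
    · rw [map_smul (F.map q).hom]
      exact smul_quot_eq_zero x hac hc _
  · rw [ptJ_ne hxa, eq_top_iff]
    intro c _
    refine (himg c).2 ?_
    haveI : Subsingleton ↑(F.obj (ClSub.quotMod (ptIdeal a hac))) := subsingleton_stalk_of_ne a hac hxa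
    exact Subsingleton.elim _ _

include k in
/-- Twisting by a closed point. -/
theorem exists_twist (hdim : topologicalKrullDim X = 1) (hL : PicF.IsInvertible L) {a : X}
    (hac : IsClosed ({a} : Set X)) :
    ∃ ψ : CohB1.tensorMod (ptMod a hac) L ⟶ L, Mono ψ ∧ HasIdeal ψ (ptJ a) := by
  haveI := CurveCohLib.isNoetherian_of_proper (k := k) (X := X)
  obtain ⟨c⟩ := H23.PicMul.comm (Coh.structureModule X) L
  let β : (AmpleVan.tw L).obj (Coh.structureModule X) ≅ L := c ≪≫ (KFlatLib.tensorStructureIso X).app L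
  haveI : (AmpleVan.tw L).IsEquivalence := AmpleVan.isEquivalence_tw hL
  haveI : Mono (ClSub.idealModι (ptIdeal a hac)) := (shortExact_pt a hac).mono_f
  refine ⟨(AmpleVan.tw L).map (ClSub.idealModι (ptIdeal a hac)) ≫ β.hom, inferInstance, ?_⟩
  intro x U e he hxU
  obtain ⟨V₀, hxV₀, ε, hε, hJ⟩ := ptIdeal_frame k hdim hac x
  let V : X.Opens := V₀ ⊓ U
  have hxV : x ∈ V := ⟨hxV₀, hxU⟩
  let eV : Γ(L, V) := AModX.res L (inf_le_right : V ≤ U) e
  have heV : IsFrame eV := he.res inf_le_right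
  let εV : Γ(ptMod a hac, V) := AModX.res _ (inf_le_left : V ≤ V₀) ε
  let oneV : Γ(Coh.structureModule X, V) := (1 : Γ(X, V))
  let p : Γ(L, V) := β.hom.app V (InvX.tmul oneV eV)
  have hp : IsFrame p := (isFrame_tmul (InvX.isFrame_one V) heV).map_iso β
  obtain ⟨d, hd⟩ := hp.exists_coord le_rfl eV
  obtain ⟨d', hd'⟩ := heV.exists_coord le_rfl p
  rw [AModX.res_self] at hd hd'
  have hdd : d' * d = 1 := hp.coord_unique le_rfl
    (by rw [AModX.res_self, mul_smul, one_smul, ← hd, ← hd'])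
  let u₀ : Γ(X, V₀) := (show Γ(X, V₀) from (ClSub.idealModι (ptIdeal a hac)).app V₀ ε)
  refine ⟨V, inf_le_right, hxV, InvX.tmul εV eV, AModX.resR (inf_le_left : V ≤ V₀) u₀ * d',
    isFrame_tmul (hε.res inf_le_left) heV, ?_, ?_⟩
  · show β.hom.app V (((AmpleVan.tw L).map (ClSub.idealModι (ptIdeal a hac))).app V (InvX.tmul εV eV)) = _
    rw [AmpleVan.map_tmul_left]
    have h1 : (ClSub.idealModι (ptIdeal a hac)).app V εV = AModX.resR (inf_le_left : V ≤ V₀) u₀ • oneV := by
      refine (AModX.app_res _ _ _).trans ?_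
      show X.presheaf.map (homOfLE (inf_le_left : V ≤ V₀)).op u₀ =
        X.presheaf.map (homOfLE (inf_le_left : V ≤ V₀)).op u₀ * (1 : Γ(X, V))
      rw [mul_one]
    rw [h1, InvX.tmul_smul_left, Scheme.Modules.Hom.app_smul, mul_smul]
    exact congrArg (_ • ·) hd'
  · rw [map_mul, InvX.germ_resR' (inf_le_left : V ≤ V₀) hxV, ← hJ]
    exact Ideal.span_singleton_mul_right_unit ((IsUnit.of_mul_eq_one _ hdd).map _) _

include k in
/-- The sections of a point twist drop by at most one. -/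
theorem h0_twist_ge (hL : PicF.IsInvertible L) {a : X} (hac : IsClosed ({a} : Set X)) :
    Module.finrank k (Coh.HH X L 0) ≤ Module.finrank k (Coh.HH X (CohB1.tensorMod (ptMod a hac) L) 0) + 1 := by
  obtain ⟨c⟩ := H23.PicMul.comm (ptMod a hac) L
  rw [(CurveCohLib.hhEquiv (k := k) c 0).finrank_eq]
  exact CurveCohLib.PointTwist.h0_le k hL a hac

include k in
/-- A section outside the image makes the dimension drop. -/
theorem h0_lt (hL : Coh.IsCoh L) (ψ : M ⟶ L) [Mono ψ] (z : Γ(L, ⊤)) (hz : ∀ t, ψ.app ⊤ t ≠ z) :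
    Module.finrank k (Coh.HH X M 0) < Module.finrank k (Coh.HH X L 0) := by
  haveI := CurveCohLib.isNoetherian_of_proper (k := k) (X := X)
  haveI := CurveCohLib.finite_HH (k := k) hL 0
  have hinj : Function.Injective (mapLin k ψ 0) := fun s t h => by
    apply (Sheaf.H.equiv₀ (Coh.toAb M) isTerminalTop).injective
    refine QCoh.app_injective ψ ⊤ ?_
    exact ((Sheaf.H.equiv₀_naturality isTerminalTop ((QCoh.toAbFunctor X).map ψ) s).trans
      (congrArg (Sheaf.H.equiv₀ (Coh.toAb L) isTerminalTop) h)).trans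
      (Sheaf.H.equiv₀_naturality isTerminalTop ((QCoh.toAbFunctor X).map ψ) t).symm
  rw [← LinearMap.finrank_range_of_inj hinj]
  refine Submodule.finrank_lt fun htop => ?_
  obtain ⟨t, ht⟩ := (htop ▸ Submodule.mem_top :
    (Sheaf.H.equiv₀ (Coh.toAb L) isTerminalTop).symm z ∈ LinearMap.range (mapLin k ψ 0))
  refine hz (Sheaf.H.equiv₀ (Coh.toAb M) isTerminalTop t) ?_
  exact ((Sheaf.H.equiv₀_naturality isTerminalTop ((QCoh.toAbFunctor X).map ψ) t).trans
      (congrArg (Sheaf.H.equiv₀ (Coh.toAb L) isTerminalTop) ht)).trans (AddEquiv.apply_symm_apply _ _)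

include k in
/-- A drop of the dimension gives a section outside the image. -/
theorem exists_of_h0_lt (ψ : M ⟶ L) (h : Module.finrank k (Coh.HH X M 0) < Module.finrank k (Coh.HH X L 0))
    (hM : Coh.IsCoh M) : ∃ z : Γ(L, ⊤), ∀ t, ψ.app ⊤ t ≠ z := by
  haveI := CurveCohLib.isNoetherian_of_proper (k := k) (X := X)
  haveI := CurveCohLib.finite_HH (k := k) hM 0
  by_contra! hall
  have hsurj : Function.Surjective (mapLin k ψ 0) := fun y => by
    obtain ⟨t, ht⟩ := hall (Sheaf.H.equiv₀ (Coh.toAb L) isTerminalTop y)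
    refine ⟨(Sheaf.H.equiv₀ (Coh.toAb M) isTerminalTop).symm t, (Sheaf.H.equiv₀ (Coh.toAb L) isTerminalTop).injective ?_⟩
    refine (Sheaf.H.equiv₀_naturality isTerminalTop ((QCoh.toAbFunctor X).map ψ) _).symm.trans ?_
    refine (congrArg (ψ.app ⊤) (AddEquiv.apply_symm_apply _ _)).trans ht
  have := LinearMap.finrank_le_finrank_of_surjective hsurj
  omega

end Point

end Groth.Agent.CurveVA
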