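import Groth.Agent.CurveVA.SectionBound
import Groth.Agent.CurveVA.Twist
import Groth.Agent.CurveFF.Canonical

/-! Effective modules with a single section in every degree up to the genus. -/

noncomputable section

set_option linter.style.haveILetI false
set_option linter.unusedSectionVars false
set_option backward.isDefEq.respectTransparency false
set_option backward.isDefEq.respectTransparency.types false
set_option maxHeartbeats 400000

universe u

open CategoryTheory CategoryTheory.Limits AlgebraicGeometry TopologicalSpace Opposite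

namespace Groth.Agent.CurveVA

open Groth.Agent Groth.Agent.InvX Groth.Agent.H23 Groth.Agent.CurvePoint

variable {X : Scheme.{u}} (k : Type u) [Field k] [X.Over (Spec (CommRingCat.of k))]
  [IsProper (X ↘ Spec (CommRingCat.of k))] [IsAlgClosed k] [IsIntegral X]

/-- An invertible module with a section has a closed point at which twisting lowers `h⁰`. -/
theorem exists_point_h0_lt [Smooth (X ↘ Spec (CommRingCat.of k))] (hdim : topologicalKrullDim X = 1)
    {M : X.Modules} (hM : PicF.IsInvertible M) (h : Module.finrank k (Coh.HH X M 0) ≠ 0) :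
    ∃ (a : X) (ha : IsClosed ({a} : Set X)),
      Module.finrank k (Coh.HH X (CohB1.tensorMod (ptMod a ha) M) 0) + 1 = Module.finrank k (Coh.HH X M 0) := by
  haveI := CurveCohLib.isNoetherian_of_proper (k := k) (X := X)
  haveI : JacobsonSpace X := LocallyOfFiniteType.jacobsonSpace (X ↘ Spec (CommRingCat.of k))
  obtain ⟨s, hs⟩ := CurveRR.exists_hom_ne_zero k (P := M) h
  obtain ⟨U, hU, e, he⟩ := exists_frame hM (genericPoint X)
  obtain ⟨b, hb0, hb⟩ := exists_coord_ne_zero hM s hs he hU
  have hbne : (X.basicOpen b : Set X).Nonempty := Set.nonempty_iff_ne_empty.2 fun h0 =>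
    hb0 (eq_zero_of_basicOpen_eq_bot b (Opens.ext h0))
  obtain ⟨a, hab, hac⟩ := nonempty_inter_closedPoints hbne (X.basicOpen b).2.isLocallyClosed
  rw [mem_closedPoints_iff] at hac
  have haU : a ∈ U := X.basicOpen_le b hab
  refine ⟨a, hac, ?_⟩
  obtain ⟨ψ, hψ, hJ⟩ := exists_twist k hdim hM hac
  have h1 := h0_lt k (CurveDeg.isCoh_of_isInvertible hM) ψ (s.app ⊤ (1 : Γ(X, ⊤))) fun t ht => by
    have hm := hJ.coord_mem he haU t
    rw [ht, ptJ_self, ← InvX.germ_res' (le_top : U ≤ ⊤) haU, hb, QCoh.germ_smul', coord_smul_germ] at hm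
    exact (IsLocalRing.mem_maximalIdeal _).1 hm ((X.mem_basicOpen b a haU).1 hab)
  have h2 := h0_twist_ge k hM hac
  omega

/-- For `r ≤ g` some module of degree `-r` leaves `g - r` differentials. -/
theorem exists_inverse_effective [Smooth (X ↘ Spec (CommRingCat.of k))] (hdim : topologicalKrullDim X = 1) :
    ∀ r : ℕ, r ≤ Curv2.genus k X → ∃ D : X.Modules, PicF.IsInvertible D ∧ Curv2.deg k X D 1 = -(r : ℤ) ∧
      Module.finrank k (Coh.HH X (CohB1.tensorMod (CurveFF.Ωm k X) D) 0) + r = Curv2.genus k X := by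
  intro r
  induction r with
  | zero =>
    intro _
    refine ⟨Coh.structureModule X, CurveDeg.isInvertible_structureModule, by simp [CurveDeg.deg_structureModule], ?_⟩
    obtain ⟨c⟩ := H23.PicMul.comm (CurveFF.Ωm k X) (Coh.structureModule X)
    rw [(CurveCohLib.hhEquiv (k := k) (c ≪≫ CurveTensor.structureTensorIso _) 0).finrank_eq,
      (CurveFF.canonical_invariants k X hdim).1, add_zero]
  | succ r ih =>
    intro hr
    obtain ⟨D, hD, hd, hh⟩ := ih (by omega)
    have hM : PicF.IsInvertible (CohB1.tensorMod (CurveFF.Ωm k X) D) :=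
      InvX.isInvertible_tensorMod (CurveFF.isInvertible_Ωm k X hdim) hD
    obtain ⟨a, ha, hlt⟩ := exists_point_h0_lt k hdim hM (by omega)
    have hI := isInvertible_ptMod a ha k hdim
    refine ⟨CohB1.tensorMod (ptMod a ha) D, InvX.isInvertible_tensorMod hI hD, ?_, ?_⟩
    · have h := CurveRR.deg_tensor k hdim hI hD
      rw [deg_ptMod a ha k, hd] at h
      exact h.trans (by push_cast; ring)
    · let e : CohB1.tensorMod (CurveFF.Ωm k X) (CohB1.tensorMod (ptMod a ha) D) ≅
          CohB1.tensorMod (ptMod a ha) (CohB1.tensorMod (CurveFF.Ωm k X) D) :=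
        (AmpleVan.assocT _ _ _).symm ≪≫ (AmpleVan.tw D).mapIso (CurveTensor.commIso (CurveFF.Ωm k X) (ptMod a ha)) ≪≫
          AmpleVan.assocT _ _ _
      rw [(CurveCohLib.hhEquiv (k := k) e 0).finrank_eq]
      omega

end Groth.Agent.CurveVA
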