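import Groth.Agent.CurveVA.Criterion
import Groth.Agent.Lib.CurveRR
import Groth.Agent.Lib.Euler
import Groth.Agent.Snapper.IsoOn

/-! The number of sections of a rank one module is at most one more than its degree. -/

noncomputable section

set_option linter.style.haveILetI false
set_option linter.unusedSectionVars false
set_option backward.isDefEq.respectTransparency false
set_option backward.isDefEq.respectTransparency.types false

universe u

set_option maxHeartbeats 400000

open CategoryTheory CategoryTheory.Limits AlgebraicGeometry TopologicalSpace Opposite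
open Groth.Agent.PnCoh.Finite (mapLin)

namespace Groth.Agent.CurveVA

open Groth.Agent Groth.Agent.InvX Groth.Agent.H23 Groth.Agent.CurvePoint

variable {X : Scheme.{u}} (k : Type u) [Field k] [X.Over (Spec (CommRingCat.of k))]
  [IsProper (X ↘ Spec (CommRingCat.of k))]

/-- `h⁰` is subadditive in short exact sequences. -/
theorem finrank_h0_le_add {S : ShortComplex X.Modules} (hS : S.ShortExact) (h1 : Coh.IsCoh S.X₁)
    (h2 : Coh.IsCoh S.X₂) (h3 : Coh.IsCoh S.X₃) :
    Module.finrank k (Coh.HH X S.X₂ 0) ≤
      Module.finrank k (Coh.HH X S.X₁ 0) + Module.finrank k (Coh.HH X S.X₃ 0) := by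
  haveI := CurveCohLib.finite_HH (k := k) h1 0
  haveI := CurveCohLib.finite_HH (k := k) h2 0
  haveI := CurveCohLib.finite_HH (k := k) h3 0
  have e := LinearMap.finrank_range_add_finrank_ker (mapLin k S.g 0)
  rw [← Euler.range_mapLin_f k hS 0] at e
  have a := LinearMap.finrank_range_le (mapLin k S.f 0)
  have b := Submodule.finrank_le (LinearMap.range (mapLin k S.g 0))
  omega

variable [IsAlgClosed k] [IsIntegral X]

theorem exists_coord_ne_zero {L : X.Modules} (hL : PicF.IsInvertible L) (φ : Coh.structureModule X ⟶ L) (hφ : φ ≠ 0)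
    {U : X.Opens} {e : Γ(L, U)} (he : IsFrame e) (hU : genericPoint X ∈ U) :
    ∃ b : Γ(X, U), b ≠ 0 ∧ AModX.res L (le_top : U ≤ ⊤) (φ.app ⊤ (1 : Γ(X, ⊤))) = b • e := by
  obtain ⟨b, hb⟩ := he.exists_coord le_rfl (AModX.res L (le_top : U ≤ ⊤) (φ.app ⊤ (1 : Γ(X, ⊤))))
  rw [AModX.res_self] at hb
  refine ⟨b, fun hb0 => ?_, hb⟩
  rw [hb0, zero_smul] at hb
  have h1 : φ.app U (AModX.res (Coh.structureModule X) (le_top : U ≤ ⊤) (1 : Γ(X, ⊤))) = 0 :=
    (AModX.app_res φ _ _).trans hb
  have h2 := InvEnd.app_injective_of_ne_zero CurveDeg.isInvertible_structureModule hL φ hφ U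
    (h1.trans (map_zero _).symm)
  haveI : Nonempty (U : X.Opens) := ⟨⟨genericPoint X, hU⟩⟩
  exact one_ne_zero (α := Γ(X, U)) ((map_one (X.presheaf.map (homOfLE (le_top : U ≤ ⊤)).op).hom).symm.trans h2)

/-- A map into a line with nonzero value at one element is surjective. -/
theorem surjective_of_coord {R A B C : Type*} [CommRing R] [AddCommGroup A] [Module R A] [AddCommGroup B] [Module R B]
    [AddCommGroup C] [Module R C] (hR : IsField R) (g : A →ₗ[R] B) (h : B →ₗ[R] C) (hh : Function.Injective h)
    (c : C →+ R) (hc : Function.Injective c) (hcs : ∀ (a : R) (m : C), c (a • m) = a * c m) {o : A}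
    (hne : c (h (g o)) ≠ 0) : Function.Surjective g := fun m => by
  letI := hR.toField
  refine ⟨(c (h m) / c (h (g o))) • o, hh (hc ?_)⟩
  rw [map_smul, map_smul, hcs, div_mul_cancel₀ _ hne]

/-- The cokernel of a nonzero section of a rank one module vanishes at the generic point. -/
theorem generic_notMem_support {L F : X.Modules} (hL : PicF.IsInvertible L) (s : Coh.structureModule X ⟶ F)
    (j : F ⟶ L) [Mono j] (hne : s ≫ j ≠ 0) : genericPoint X ∉ CohB1.support (cokernel s) := by
  obtain ⟨U, hU, e, he⟩ := exists_frame hL (genericPoint X)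
  obtain ⟨b, hb0, hb⟩ := exists_coord_ne_zero hL (s ≫ j) hne he hU
  let F₀ := DerSch.stalkFunctor X (genericPoint X)
  have hm : Mono (F₀.map j) := inferInstance
  have hs : Function.Surjective (F₀.map s).hom := by
    refine surjective_of_coord (CurveBundle.isField_stalk_generic (X := X)) (F₀.map s).hom (F₀.map j).hom
      ((ModuleCat.mono_iff_injective _).1 hm) (coord he hU)
      (AddEquiv.ofBijective (AddMonoidHom.mk' (fun c : X.presheaf.stalk (genericPoint X) => c • L.presheaf.germ U (genericPoint X) hU e)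
        fun a b => add_smul a b _) (he.germ_bijective hU)).symm.injective
      (coord_smul he hU) (o := (Coh.structureModule X).presheaf.germ ⊤ (genericPoint X) trivial (1 : Γ(X, ⊤))) ?_
    have h1 : (F₀.map (s ≫ j)).hom ((Coh.structureModule X).presheaf.germ ⊤ (genericPoint X) trivial (1 : Γ(X, ⊤))) =
        L.presheaf.germ ⊤ (genericPoint X) trivial ((s ≫ j).app ⊤ (1 : Γ(X, ⊤))) :=
      TopCat.Presheaf.stalkFunctor_map_germ_apply (C := AddCommGrpCat) ⊤ (genericPoint X) trivial
        ((Scheme.Modules.toPresheaf X).map (s ≫ j)) (1 : Γ(X, ⊤))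
    rw [F₀.map_comp, ModuleCat.hom_comp, LinearMap.comp_apply] at h1
    rw [h1, ← InvX.germ_res' (le_top : U ≤ ⊤) hU, hb, QCoh.germ_smul']
    refine fun h0 => ?_
    have h := (coord_smul_germ he hU (X.presheaf.germ U (genericPoint X) hU b)).symm.trans h0
    revert h
    exact fun h => hb0 (AlgebraicGeometry.germ_injective_of_isIntegral X (genericPoint X) hU (h.trans (map_zero _).symm))
  exact Snapper.notMem_support_cokernel s ((ModuleCat.epi_iff_surjective _).2 hs)

/-- A section of a submodule of an invertible module makes the degree nonnegative. -/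
theorem euler_le_of_section (hdim : topologicalKrullDim X = 1) {L : X.Modules} (hL : PicF.IsInvertible L)
    {F : X.Modules} (j : F ⟶ L) [Mono j] (hF : Coh.IsCoh F) (h : Module.finrank k (Coh.HH X F 0) ≠ 0) :
    0 ≤ Curv2.euler k X F - Curv2.euler k X (Coh.structureModule X) := by
  haveI := CurveCohLib.isNoetherian_of_proper (k := k) (X := X)
  obtain ⟨s, hs⟩ := CurveRR.exists_hom_ne_zero k (P := F) h
  have hne : s ≫ j ≠ 0 := fun h0 => hs ((cancel_mono j).1 (h0.trans zero_comp.symm))
  haveI := InvEnd.mono_of_ne_zero CurveDeg.isInvertible_structureModule hL (s ≫ j) hne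
  haveI : Mono s := mono_of_mono s j
  have hO : Coh.IsCoh (Coh.structureModule X) := QCoh.isCoh_structureModule'
  have hQ : Coh.IsCoh (cokernel s) := QCoh.isCoh_cokernel hO.1 hF s
  have hsum : Curv2.euler k X F = Curv2.euler k X (Coh.structureModule X) + Curv2.euler k X (cokernel s) :=
    CurveBundle.euler_add' k s (cokernel.π s) (cokernel.condition s) (CurveSlope.shortExact_cokernel_of_mono s) hO hF hQ
  by_contra hlt
  have hη := generic_notMem_support hL s j hne
  have hd0 := CurveDeg.topologicalKrullDim_le_zero_of_ne_univ hdim.le (QCoh.isClosed_support_of_isFT hQ.1 hQ.2)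
    fun hu => hη (hu.symm.subset trivial)
  have hz := CurveCohLib.euler_eq_finrank_zero (k := k) hQ fun x hx => by
    rw [← Euler.closure_eq_self_of_dim_le_zero (QCoh.isClosed_support_of_isFT hQ.1 hQ.2) hd0 hx]
    exact isClosed_closure
  omega

/-- A coherent submodule of an invertible module has at most `deg + 1` independent sections. -/
theorem finrank_h0_le_of_mono (hdim : topologicalKrullDim X = 1) {L : X.Modules} (hL : PicF.IsInvertible L) :
    ∀ (N : ℕ) {F : X.Modules} (j : F ⟶ L) [Mono j], Coh.IsCoh F →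
      Curv2.euler k X F - Curv2.euler k X (Coh.structureModule X) < N →
      Module.finrank k (Coh.HH X F 0) ≤ N := by
  haveI := CurveCohLib.isNoetherian_of_proper (k := k) (X := X)
  haveI : JacobsonSpace X := LocallyOfFiniteType.jacobsonSpace (X ↘ Spec (CommRingCat.of k))
  intro N
  induction N with
  | zero =>
    intro F j _ hF h
    by_contra hne
    have := euler_le_of_section k hdim hL j hF (by omega)
    omega
  | succ N ih =>
    intro F j _ hF h
    by_cases h0 : Module.finrank k (Coh.HH X F 0) = 0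
    · omega
    obtain ⟨s, hs⟩ := CurveRR.exists_hom_ne_zero k (P := F) h0
    have hne : s ≫ j ≠ 0 := fun e => hs ((cancel_mono j).1 (e.trans zero_comp.symm))
    let t : Γ(F, ⊤) := s.app ⊤ (1 : Γ(X, ⊤))
    let z : Γ(L, ⊤) := j.app ⊤ t
    obtain ⟨U, hU, e, he⟩ := exists_frame hL (genericPoint X)
    obtain ⟨b, hb0, hb⟩ := exists_coord_ne_zero hL (s ≫ j) hne he hU
    have hbne : (X.basicOpen b : Set X).Nonempty := Set.nonempty_iff_ne_empty.2 fun h0 =>
      hb0 (eq_zero_of_basicOpen_eq_bot b (Opens.ext h0))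
    obtain ⟨x, hxb, hxc⟩ := nonempty_inter_closedPoints hbne (X.basicOpen b).2.isLocallyClosed
    rw [mem_closedPoints_iff] at hxc
    have hxU : x ∈ U := X.basicOpen_le b hxb
    have hxv : coord he hxU (L.presheaf.germ ⊤ x trivial z) ∉ IsLocalRing.maximalIdeal (X.presheaf.stalk x) := by
      show coord he hxU (L.presheaf.germ ⊤ x trivial ((s ≫ j).app ⊤ (1 : Γ(X, ⊤)))) ∉ _
      rw [← InvX.germ_res' (le_top : U ≤ ⊤) hxU, hb, QCoh.germ_smul', coord_smul_germ, IsLocalRing.mem_maximalIdeal,
        mem_nonunits_iff, not_not]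
      exact (X.mem_basicOpen b x hxU).1 hxb
    let l : F.presheaf.stalk x →+ k :=
      (valFun k he hxU hxc).comp ((DerSch.stalkFunctor X x).map j).hom.toAddMonoidHom
    have hl : IsResLinear k x l := fun a m c hc => by
      show valFun k he hxU hxc (((DerSch.stalkFunctor X x).map j).hom (a • m)) = _
      exact (congrArg _ (map_smul ((DerSch.stalkFunctor X x).map j).hom a m)).trans
        (isResLinear_valFun k he hxU hxc a _ c hc)
    have hm : l (F.presheaf.germ ⊤ x trivial t) ≠ 0 := fun e0 => hxv ((valFun_eq_zero k he hxU hxc _).1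
      ((congrArg (valFun k he hxU hxc) (TopCat.Presheaf.stalkFunctor_map_germ_apply (C := AddCommGrpCat) ⊤ x trivial
        ((Scheme.Modules.toPresheaf X).map j) t).symm).trans e0))
    obtain ⟨hK, hχ⟩ := euler_kernel_skyMap k hxc l hl hF hm
    have h1 := ih (kernel.ι (skyMap k hxc l hl) ≫ j) hK (by omega)
    have hQ := ParShLib.isCoh_quotMod (ptIdeal x hxc)
    have h2 := finrank_h0_le_add k (shortExact_skyMap k hxc l hl hm) hK hF hQ
    have h3 := CurveCohLib.euler_eq_finrank_zero (k := k) hQ
      (fun _ hy => Set.mem_singleton_iff.1 (support_quot_subset x hxc hy) ▸ hxc)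
    rw [euler_quot_pt k hxc] at h3
    dsimp only at h2
    omega


/-- `h⁰(L) ≤ deg L + 1` for `deg L ≥ 0`. -/
theorem finrank_h0_le_deg_add_one (hdim : topologicalKrullDim X = 1) {L : X.Modules}
    (hL : PicF.IsInvertible L) (h : 0 ≤ Curv2.deg k X L 1) :
    (Module.finrank k (Coh.HH X L 0) : ℤ) ≤ Curv2.deg k X L 1 + 1 := by
  haveI := CurveCohLib.isNoetherian_of_proper (k := k) (X := X)
  have h1 : Curv2.deg k X L 1 = Curv2.euler k X L - Curv2.euler k X (Coh.structureModule X) := by
    unfold Curv2.deg; simp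
  have := finrank_h0_le_of_mono k hdim hL (Curv2.deg k X L 1 + 1).toNat (𝟙 L)
    (AmpleVan.isCoh_invertible hL) (by omega)
  omega

end Groth.Agent.CurveVA
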