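import Groth.Agent.CurveVA.Twist
import Groth.Agent.CurveVA.Main

/-! Very ampleness and the dimensions of twists by two points. -/

noncomputable section

set_option linter.style.haveILetI false
set_option linter.unusedSectionVars false
set_option backward.isDefEq.respectTransparency false
set_option backward.isDefEq.respectTransparency.types false

universe u

open CategoryTheory CategoryTheory.Limits AlgebraicGeometry TopologicalSpace Opposite
open Groth.Agent.PnCoh.Finite (mapLin)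

namespace Groth.Agent.CurveVA

open Groth.Agent Groth.Agent.InvX Groth.Agent.H23 Groth.Agent.CurvePoint

variable {X : Scheme.{u}} {L : X.Modules}

/-- Membership of the coordinate in an ideal does not depend on the frame. -/
theorem coord_mem_of_frame {U U' : X.Opens} {e : Γ(L, U)} {e' : Γ(L, U')} (he : IsFrame e) (he' : IsFrame e')
    {x : X} (hx : x ∈ U) (hx' : x ∈ U') {I : Ideal (X.presheaf.stalk x)} {m : L.presheaf.stalk x}
    (h : coord he hx m ∈ I) : coord he' hx' m ∈ I := by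
  obtain ⟨c, rfl⟩ := (he.germ_bijective hx).2 m
  show coord he' hx' (c • _) ∈ I
  rw [coord_smul]
  exact Ideal.mul_mem_right _ _ (coord_smul_germ he hx c ▸ h)

variable (k : Type u) [Field k] [IsAlgClosed k] [X.Over (Spec (CommRingCat.of k))]
  [IsIntegral X] [IsProper (X ↘ Spec (CommRingCat.of k))] [Smooth (X ↘ Spec (CommRingCat.of k))]

include k in
/-- The twist by two points as a submodule. -/
theorem exists_twist₂ (hdim : topologicalKrullDim X = 1) (hL : PicF.IsInvertible L) {a b : X}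
    (hac : IsClosed ({a} : Set X)) (hbc : IsClosed ({b} : Set X)) :
    ∃ (ψ₁ : CohB1.tensorMod (ptMod a hac) L ⟶ L)
      (ψ₂ : CohB1.tensorMod (ptMod b hbc) (CohB1.tensorMod (ptMod a hac) L) ⟶ CohB1.tensorMod (ptMod a hac) L),
      Mono ψ₁ ∧ Mono ψ₂ ∧ HasIdeal ψ₁ (ptJ a) ∧ HasIdeal (ψ₂ ≫ ψ₁) (fun x => ptJ b x * ptJ a x) ∧
      Nonempty (CohB1.tensorMod (ptMod b hbc) (CohB1.tensorMod (ptMod a hac) L) ≅
        CohB1.tensorMod L (CohB1.tensorMod (ptMod a hac) (ptMod b hbc))) := by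
  obtain ⟨ψ₁, h1, hJ1⟩ := exists_twist k hdim hL hac
  obtain ⟨ψ₂, h2, hJ2⟩ := exists_twist k hdim
    (InvX.isInvertible_tensorMod (isInvertible_ptMod a hac k hdim) hL) hbc
  obtain ⟨c1⟩ := H23.PicMul.comm L (CohB1.tensorMod (ptMod a hac) (ptMod b hbc))
  obtain ⟨c2⟩ := H23.PicMul.comm (ptMod a hac) (ptMod b hbc)
  exact ⟨ψ₁, ψ₂, h1, h2, hJ1, hJ1.comp hJ2,
    ⟨(AmpleVan.assocT _ _ _).symm ≪≫ (AmpleVan.tw L).mapIso c2.symm ≪≫ c1.symm⟩⟩

section Forward

variable (hdim : topologicalKrullDim X = 1) (hL : PicF.IsInvertible L)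
  (hC : ∀ (a b : X) (hac : IsClosed ({a} : Set X)) (hbc : IsClosed ({b} : Set X)),
    Module.finrank k (Coh.HH X (CohB1.tensorMod L (CohB1.tensorMod (ptMod a hac) (ptMod b hbc))) 0) + 2 =
      Module.finrank k (Coh.HH X L 0))

include hdim hL hC

/-- The numerical condition gives sections in one twist and not in the next. -/
theorem exists_mem_not_mem {a b : X} (hac : IsClosed ({a} : Set X)) (hbc : IsClosed ({b} : Set X))
    {U : X.Opens} {e : Γ(L, U)} (he : IsFrame e) (hb : b ∈ U) :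
    ∃ z : Γ(L, ⊤), (∀ {V : X.Opens} {f : Γ(L, V)} (hf : IsFrame f) (ha : a ∈ V),
        coord hf ha (L.presheaf.germ ⊤ a trivial z) ∈ IsLocalRing.maximalIdeal (X.presheaf.stalk a)) ∧
      coord he hb (L.presheaf.germ ⊤ b trivial z) ∉
        IsLocalRing.maximalIdeal (X.presheaf.stalk b) * ptJ a b := by
  haveI := CurveCohLib.isNoetherian_of_proper (k := k) (X := X)
  obtain ⟨ψ₁, ψ₂, h1, h2, hJ1, hJ2, ⟨φ⟩⟩ := exists_twist₂ k hdim hL hac hbc
  have hM₁ := InvX.isInvertible_tensorMod (isInvertible_ptMod a hac k hdim) hL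
  have hM₂ := InvX.isInvertible_tensorMod (isInvertible_ptMod b hbc k hdim) hM₁
  have e1 := (CurveCohLib.hhEquiv (k := k) φ 0).finrank_eq
  have e2 := hC a b hac hbc
  have e3 := h0_twist_ge k hL hac
  obtain ⟨z₁, hz₁⟩ := exists_of_h0_lt k ψ₂ (by omega) (CurveDeg.isCoh_of_isInvertible hM₂)
  refine ⟨ψ₁.app ⊤ z₁, fun hf ha => ptJ_self a ▸ hJ1.coord_mem hf ha z₁, fun hmem => ?_⟩
  obtain ⟨t, ht⟩ := hJ2.exists_preimage hL (ψ₁.app ⊤ z₁) fun x V f hf hxV => by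
    by_cases hxb : x = b
    · subst hxb
      show _ ∈ ptJ x x * ptJ a x
      rw [ptJ_self x]
      exact coord_mem_of_frame he hf hb hxV hmem
    · show _ ∈ ptJ b x * ptJ a x
      rw [ptJ_ne hxb, Ideal.top_mul]
      exact hJ1.coord_mem hf hxV z₁
  exact hz₁ t (QCoh.app_injective ψ₁ ⊤ ht)

theorem separate {U : X.Opens} {e : Γ(L, U)} (he : IsFrame e) {a b : X} (ha : a ∈ U) (hb : b ∈ U)
    (hac : IsClosed ({a} : Set X)) (hbc : IsClosed ({b} : Set X)) (hne : b ≠ a) :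
    ∃ z : Γ(L, ⊤), coord he ha (L.presheaf.germ ⊤ a trivial z) ∈ IsLocalRing.maximalIdeal (X.presheaf.stalk a) ∧
      coord he hb (L.presheaf.germ ⊤ b trivial z) ∉ IsLocalRing.maximalIdeal (X.presheaf.stalk b) := by
  obtain ⟨z, hz, hz'⟩ := exists_mem_not_mem k hdim hL hC hac hbc he hb
  rw [ptJ_ne hne, Ideal.mul_top] at hz'
  exact ⟨z, hz he ha, hz'⟩

theorem tangent {U : X.Opens} {e : Γ(L, U)} (he : IsFrame e) {a : X} (ha : a ∈ U) (hac : IsClosed ({a} : Set X))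
    (N : Ideal (X.presheaf.stalk a)) (hN : IsLocalRing.maximalIdeal (X.presheaf.stalk a) ^ 2 ≤ N)
    (hlt : ¬ IsLocalRing.maximalIdeal (X.presheaf.stalk a) ≤ N) :
    ∃ z : Γ(L, ⊤), coord he ha (L.presheaf.germ ⊤ a trivial z) ∈ IsLocalRing.maximalIdeal (X.presheaf.stalk a) ∧
      coord he ha (L.presheaf.germ ⊤ a trivial z) ∉ N := by
  obtain ⟨z, hz, hz'⟩ := exists_mem_not_mem k hdim hL hC hac hac he ha
  rw [ptJ_self, ← pow_two] at hz'
  refine ⟨z, hz he ha, fun hmem => hlt ?_⟩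
  haveI := CurveEmbed.isDVR_of_normal k hdim hac (CurveEmbed.isIntegrallyClosed_of_smooth k hdim hac (by
    rw [(Scheme.Hom.smoothLocus_eq_top_iff (f := X ↘ Spec (CommRingCat.of k))).2 inferInstance]; trivial))
  obtain ⟨ϖ, hϖ⟩ := IsDiscreteValuationRing.exists_irreducible (X.presheaf.stalk a)
  have hm : IsLocalRing.maximalIdeal (X.presheaf.stalk a) = Ideal.span {ϖ} := hϖ.maximalIdeal_eq
  have hzm := hz he ha
  rw [hm] at hzm hz'
  obtain ⟨c, hc⟩ := Ideal.mem_span_singleton'.1 hzm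
  have hcu : IsUnit c := by
    by_contra hcu
    refine hz' ?_
    rw [← hc, pow_two]
    exact Ideal.mul_mem_mul (hm ▸ (IsLocalRing.mem_maximalIdeal c).2 hcu) (Ideal.mem_span_singleton_self ϖ)
  rw [← hc] at hmem
  rw [hm, Ideal.span_singleton_le_iff_mem]
  have h2 := N.mul_mem_left (↑hcu.unit⁻¹ : X.presheaf.stalk a) hmem
  rwa [← mul_assoc, IsUnit.val_inv_mul, one_mul] at h2

theorem exists_not_mem_self {U : X.Opens} {e : Γ(L, U)} (he : IsFrame e) {a : X} (ha : a ∈ U)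
    (hac : IsClosed ({a} : Set X)) :
    ∃ z : Γ(L, ⊤), coord he ha (L.presheaf.germ ⊤ a trivial z) ∉ IsLocalRing.maximalIdeal (X.presheaf.stalk a) := by
  haveI := CurveCohLib.isNoetherian_of_proper (k := k) (X := X)
  obtain ⟨ψ₁, h1, hJ1⟩ := exists_twist k hdim hL hac
  obtain ⟨ψ₁', ψ₂, -, h2, -, -, ⟨φ⟩⟩ := exists_twist₂ k hdim hL hac hac
  have hM₁ := InvX.isInvertible_tensorMod (isInvertible_ptMod a hac k hdim) hL
  have e1 := (CurveCohLib.hhEquiv (k := k) φ 0).finrank_eq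
  have e2 := hC a a hac hac
  have e3 := h0_twist_ge k hM₁ hac
  obtain ⟨z, hz⟩ := exists_of_h0_lt k ψ₁ (by omega) (CurveDeg.isCoh_of_isInvertible hM₁)
  refine ⟨z, fun hmem => ?_⟩
  obtain ⟨t, ht⟩ := hJ1.exists_preimage hL z fun x V f hf hxV => by
    by_cases hxa : x = a
    · subst hxa
      rw [ptJ_self]
      exact coord_mem_of_frame he hf ha hxV hmem
    · rw [ptJ_ne hxa]; trivial
  exact hz t ht

end Forward

/-- Sections separating points and tangent vectors give a projective embedding. -/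
theorem exists_embedding_of_separation (hdim : topologicalKrullDim X = 1) (hL : PicF.IsInvertible L)
    (hgg : ∀ {U : X.Opens} {e : Γ(L, U)} (he : IsFrame e) {a : X} (ha : a ∈ U), IsClosed ({a} : Set X) →
      ∃ z : Γ(L, ⊤), coord he ha (L.presheaf.germ ⊤ a trivial z) ∉ IsLocalRing.maximalIdeal (X.presheaf.stalk a))
    (hsep : ∀ {U : X.Opens} {e : Γ(L, U)} (he : IsFrame e) {a b : X} (ha : a ∈ U) (hb : b ∈ U),
      IsClosed ({a} : Set X) → IsClosed ({b} : Set X) → b ≠ a →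
      ∃ z : Γ(L, ⊤), coord he ha (L.presheaf.germ ⊤ a trivial z) ∈ IsLocalRing.maximalIdeal (X.presheaf.stalk a) ∧
        coord he hb (L.presheaf.germ ⊤ b trivial z) ∉ IsLocalRing.maximalIdeal (X.presheaf.stalk b))
    (htan : ∀ {U : X.Opens} {e : Γ(L, U)} (he : IsFrame e) {a : X} (ha : a ∈ U), IsClosed ({a} : Set X) →
      ∀ N : Ideal (X.presheaf.stalk a), IsLocalRing.maximalIdeal (X.presheaf.stalk a) ^ 2 ≤ N →
      ¬ IsLocalRing.maximalIdeal (X.presheaf.stalk a) ≤ N →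
      ∃ z : Γ(L, ⊤), coord he ha (L.presheaf.germ ⊤ a trivial z) ∈ IsLocalRing.maximalIdeal (X.presheaf.stalk a) ∧
        coord he ha (L.presheaf.germ ⊤ a trivial z) ∉ N) :
    ∃ (n : ℕ) (i : X ⟶ CohB1.ProjSpace n k), IsClosedImmersion i ∧
      i ≫ CohB1.ProjSpace.toSpec n k = X ↘ Spec (CommRingCat.of k) ∧
      Nonempty ((Scheme.Modules.pullback i).obj (Twist.twistProjSpace n k 1) ≅ L) := by
  classical
  let f := X ↘ Spec (CommRingCat.of k)
  haveI := CurveCohLib.isNoetherian_of_proper (k := k) (X := X)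
  haveI : JacobsonSpace X := LocallyOfFiniteType.jacobsonSpace f
  haveI := CurveCohLib.finite_HH (k := k) (CurveDeg.isCoh_of_isInvertible hL) 0
  let e₀ := Sheaf.H.equiv₀ (Coh.toAb L) isTerminalTop
  obtain ⟨n, hn⟩ : ∃ n, Module.finrank k (Coh.HH X L 0) = n + 1 := by
    obtain ⟨x, -, hxc⟩ := nonempty_inter_closedPoints (X := X) (Z := Set.univ) ⟨Classical.arbitrary X, trivial⟩
      isClosed_univ.isLocallyClosed
    obtain ⟨U, hxU, e, he⟩ := exists_frame hL x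
    obtain ⟨z, hz⟩ := hgg he hxU hxc
    have hz0 : e₀.symm z ≠ 0 := fun h => hz (by
      have h0 : z = 0 := ((e₀.apply_symm_apply z).symm.trans (congrArg e₀ h)).trans (map_zero e₀)
      rw [h0, map_zero, map_zero]
      exact Submodule.zero_mem _)
    haveI : Nontrivial (Coh.HH X L 0) := ⟨⟨_, _, hz0⟩⟩
    exact ⟨Module.finrank k (Coh.HH X L 0) - 1, (Nat.succ_pred_eq_of_pos Module.finrank_pos).symm⟩
  let b := Module.finBasisOfFinrankEq k (Coh.HH X L 0) hn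
  let σ : Fin (n + 1) → Γ(L, ⊤) := fun i => (e₀ (b i) : Γ(L, ⊤))
  let sc : k → Γ(X, ⊤) := fun c => Coh.resTop X (op ⊤) (Coh.toGlobal f c)
  have hcomb : ∀ z : Γ(L, ⊤), ∃ c : Fin (n + 1) → k, z = ∑ i, sc (c i) • σ i := fun z => by
    refine ⟨fun i => b.repr (e₀.symm z) i, ?_⟩
    conv_lhs => rw [← e₀.apply_symm_apply z, ← b.sum_repr (e₀.symm z)]
    exact (map_sum e₀ _ _).trans (Finset.sum_congr rfl fun i _ => CurveCohLib.h0Equiv_smul L _ _)
  have hcov : ∀ x : X, ∃ i, x ∈ TrivBasic.locus (σ i) := by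
    by_contra! hne
    obtain ⟨x, hx⟩ := hne
    obtain ⟨a, hay, hac⟩ := nonempty_inter_closedPoints (Z := ((⨆ i, TrivBasic.locus (σ i) : X.Opens) : Set X)ᶜ)
      ⟨x, fun h => by
        obtain ⟨i, hi⟩ := Opens.mem_iSup.1 h
        exact hx i hi⟩ (⨆ i, TrivBasic.locus (σ i) : X.Opens).2.isClosed_compl.isLocallyClosed
    obtain ⟨U, haU, e, he⟩ := exists_frame hL a
    obtain ⟨z, hz⟩ := hgg he haU hac
    obtain ⟨c, rfl⟩ := hcomb z
    apply hz
    rw [map_sum, map_sum]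
    refine Ideal.sum_mem _ fun i _ => ?_
    rw [QCoh.germ_smul' L (U := ⊤) (hx := (trivial : a ∈ (⊤ : X.Opens))), coord_smul]
    refine Ideal.mul_mem_left _ _ ((IsLocalRing.mem_maximalIdeal _).2 fun hu => hay ?_)
    refine Opens.mem_iSup.2 ⟨i, ?_⟩
    obtain ⟨γ, hγ⟩ := he.exists_coord le_rfl (AModX.res L (le_top : U ≤ ⊤) (σ i))
    rw [AModX.res_self] at hγ
    have h2 : a ∈ TrivBasic.locus (σ i) ⊓ U := by
      rw [TrivBasic.locus_eq_basicOpen he hγ, X.mem_basicOpen _ a haU]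
      rw [← InvX.germ_res' (le_top : U ≤ ⊤) haU (σ i), hγ, QCoh.germ_smul', coord_smul_germ] at hu
      exact hu
    exact h2.1
  obtain ⟨r, hr, τ, hτ⟩ := S3572.result n f L hL σ (AVAmple.generatedBy_of_locus σ hcov)
  refine ⟨n, r, ?_, hr, ⟨τ⟩⟩
  haveI : IsProper (CohB1.ProjSpace.toSpec n k) := PnCoh.Chow.isProper_toSpec n k
  refine isClosedImmersion_of_separation k hsep htan (CohB1.ProjSpace.toSpec n k) r hr fun y => ?_
  obtain ⟨j, hj⟩ := Opens.mem_iSup.1 ((AmpleEmbed.iSup_basicOpen_X n k).ge (trivial : y ∈ (⊤ : Opens _)))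
  let D : (CohB1.ProjSpace n k).Opens := Proj.basicOpen (CohB1.polyGrading n k) (MvPolynomial.X j)
  have hpre : r ⁻¹ᵁ D = TrivBasic.locus (σ j) := AmpleEmbed.preimage_chart r τ j (hτ j)
  let e : Γ(L, r ⁻¹ᵁ D) := AModX.res L (le_top : r ⁻¹ᵁ D ≤ ⊤) (σ j)
  have he : IsFrame e := TrivBasic.isFrame_res_of_le_locus hpre.le
  refine ⟨D, hj, e, he, fun z => ?_⟩
  let S : Subring Γ(X, r ⁻¹ᵁ D) := (r.app D).hom.range
  have hconst : ∀ c : k, AModX.resR (le_top : r ⁻¹ᵁ D ≤ ⊤) (sc c) ∈ S := fun c => by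
    refine ⟨(CohB1.ProjSpace.toSpec n k).appLE ⊤ D le_top ((Scheme.ΓSpecIso (CommRingCat.of k)).inv c), ?_⟩
    rw [← Scheme.Hom.appLE_eq_app, ← CommRingCat.comp_apply, Scheme.Hom.appLE_comp_appLE]
    simp only [hr]
    show f.appLE ⊤ (r ⁻¹ᵁ D) _ ((Scheme.ΓSpecIso (CommRingCat.of k)).inv c) =
      X.presheaf.map _ (X.presheaf.map (𝟙 (op ⊤)) (f.appTop _))
    rw [CategoryTheory.Functor.map_id]
    rfl
  have hs : ∀ i, ∃ β ∈ S, AModX.res L (le_top : r ⁻¹ᵁ D ≤ ⊤) (σ i) = β • e := fun i => by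
    obtain ⟨β, hβ⟩ := he.exists_coord le_rfl (AModX.res L (le_top : r ⁻¹ᵁ D ≤ ⊤) (σ i))
    rw [AModX.res_self] at hβ
    obtain ⟨t, ht⟩ : ∃ t : Γ(CohB1.ProjSpace n k, D), r.appLE D (r ⁻¹ᵁ D) le_rfl t = β :=
      ⟨_, AmpleEmbed.ratioOf_eq r τ j i (hτ j) (hτ i) le_rfl β hβ⟩
    rw [Scheme.Hom.appLE_eq_app] at ht
    exact ⟨β, ⟨t, ht⟩, hβ⟩
  obtain ⟨c, rfl⟩ := hcomb z
  suffices ∃ β ∈ S, AModX.res L (le_top : r ⁻¹ᵁ D ≤ ⊤) (∑ i, sc (c i) • σ i) = β • e by
    obtain ⟨β, ⟨t, rfl⟩, hβ⟩ := this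
    exact ⟨t, hβ⟩
  rw [map_sum]
  refine Finset.sum_induction _ (fun w => ∃ β ∈ S, w = β • e) ?_ ⟨0, S.zero_mem, (zero_smul _ _).symm⟩ fun i _ => ?_
  · rintro _ _ ⟨β, hβ, rfl⟩ ⟨γ, hγ, rfl⟩
    exact ⟨β + γ, S.add_mem hβ hγ, (add_smul _ _ _).symm⟩
  · obtain ⟨β, hβ, hiβ⟩ := hs i
    refine ⟨_, S.mul_mem (hconst (c i)) hβ, ?_⟩
    rw [AModX.res_smul, hiβ, mul_smul]

end Groth.Agent.CurveVA
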